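import Groth.Agent.EtFound.ProperHenselLifts
import Groth.Agent.Pi1X.FEtFull

/-!
# Full faithfulness of restriction to the closed fibre
-/

set_option linter.style.haveILetI false
set_option backward.isDefEq.respectTransparency false

universe u

open CategoryTheory CategoryTheory.Limits AlgebraicGeometry TopologicalSpace

noncomputable section

namespace Groth.Agent.Pi1Ext.FAlg

open Groth.Agent HensCouple7

/-- A couple for which clopen subsets of finite schemes lift uniquely gives full faithfulness. -/
theorem fullyFaithful_of_couple {X₀ X : Scheme.{u}} (i : X₀ ⟶ X) [IsClosedImmersion i]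
    (h : ∀ (Y : Scheme.{u}) (g : Y ⟶ X), IsFinite g → Lifts (g ⁻¹' Set.range i)) :
    (FEt.restrict i).Full ∧ (FEt.restrict i).Faithful := by
  have hC : ∀ C : Set X, IsClopen C → C.Nonempty → (C ∩ Set.range i.base).Nonempty := by
    intro C hC hne
    by_contra hcon
    have h1 := h X (𝟙 X) inferInstance
    have hr : ((𝟙 X : X ⟶ X) ⁻¹' Set.range i) = Set.range i := rfl
    rw [hr] at h1
    obtain ⟨U, -, hu⟩ := h1 ∅ isClopen_empty
    have e1 : C = U := hu C ⟨hC, Set.eq_empty_iff_forall_notMem.2 fun z hz => hcon ⟨z.1, hz, z.2⟩⟩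
    have e2 : ∅ = U := hu ∅ ⟨isClopen_empty, Set.preimage_empty⟩
    exact hne.ne_empty (e1.trans e2.symm)
  refine ⟨Pi1X.restrict_full i hC fun W C hC' => ?_, Pi1X.restrict_faithful i hC⟩
  haveI : IsFinite W.hom := W.prop.1
  obtain ⟨U, hU, -⟩ := (scheme_lifts_iff W.hom i).2 (h W.left W.hom inferInstance) C hC'
  exact ⟨U, hU⟩

/-- Restriction to the closed fibre is fully faithful for proper schemes over henselian pairs. -/
theorem fullyFaithful_proper {A : Type u} [CommRing A] (I : Ideal A) [HenselianRing A I] {X : Scheme.{u}}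
    (f : X ⟶ Spec (CommRingCat.of A)) [IsProper f] :
    (FEt.restrict (pullback.fst f (Spec.map (CommRingCat.ofHom (Ideal.Quotient.mk I))))).Full ∧
      (FEt.restrict (pullback.fst f (Spec.map (CommRingCat.ofHom (Ideal.Quotient.mk I))))).Faithful := by
  haveI : IsClosedImmersion (Spec.map (CommRingCat.ofHom (Ideal.Quotient.mk I))) :=
    IsClosedImmersion.spec_of_surjective _ Ideal.Quotient.mk_surjective
  haveI : IsClosedImmersion (pullback.fst f (Spec.map (CommRingCat.ofHom (Ideal.Quotient.mk I)))) :=
    MorphismProperty.pullback_fst _ _ inferInstance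
  refine fullyFaithful_of_couple _ fun Y g hg => ?_
  haveI := hg
  rw [range_fst_mk I f]
  exact ProperHenselLifts.lifts_proper' I (g ≫ f)

end Groth.Agent.Pi1Ext.FAlg
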