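import Groth.Agent.Pi1Ext.FAlg.Excellent
import Groth.Agent.Pi1Ext.FAlg.Full
import Groth.Agent.CplFib6.GRingStable
import Groth.Agent.CplFib6.Excellent
import Groth.Agent.S9276

/-!
# Finite étale covers of proper schemes over henselian pairs
-/

set_option linter.style.haveILetI false
set_option backward.isDefEq.respectTransparency false
set_option backward.isDefEq.respectTransparency.types false

universe u

open CategoryTheory CategoryTheory.Limits AlgebraicGeometry Opposite

noncomputable section

namespace Groth.Agent.Pi1Ext.FAlg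

open Groth.Agent

/-- Successive restrictions. -/
def compIso {P Q R : Scheme.{u}} (a : P ⟶ Q) (b : Q ⟶ R) (W : FEt.Cat R) :
    (FEt.restrict a).obj ((FEt.restrict b).obj W) ≅ (FEt.restrict (a ≫ b)).obj W :=
  ((MorphismProperty.Over.pullbackComp (P := FEt.prop) (Q := ⊤) a b).app W).symm

/-- Restriction along equal morphisms. -/
def congrIso {P Q : Scheme.{u}} {a b : P ⟶ Q} (h : a = b) (W : FEt.Cat Q) :
    (FEt.restrict a).obj W ≅ (FEt.restrict b).obj W :=
  eqToIso (congrArg (fun m => (FEt.restrict m).obj W) h)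

/-- Finite type subrings of any ring are G-rings. -/
theorem isGRing_adjoin_int {A : Type u} [CommRing A] (t : Finset A) :
    CAlg.IsGRing (Algebra.adjoin ℤ (t : Set A)) := by
  haveI : IsDomain (ULift.{u} ℤ) := MulEquiv.isDomain ℤ ULift.ringEquiv.toMulEquiv
  haveI : IsPrincipalIdealRing (ULift.{u} ℤ) :=
    IsPrincipalIdealRing.of_surjective ULift.ringEquiv.symm.toRingHom ULift.ringEquiv.symm.surjective
  haveI : Algebra.FiniteType ℤ (Algebra.adjoin ℤ (t : Set A)) :=
    Algebra.FiniteType.adjoin_of_finite (Finset.finite_toSet _)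
  haveI : CharZero (ULift.{u} ℤ) :=
    charZero_of_injective_ringHom (f := (ULift.ringEquiv.symm : ℤ ≃+* ULift.{u} ℤ).toRingHom) (RingEquiv.injective _)
  let e : ULift.{u} ℤ →+* ℤ := ULift.ringEquiv.toRingHom
  let α : ULift.{u} ℤ →+* Algebra.adjoin ℤ (t : Set A) := (algebraMap ℤ _).comp e
  have hα : α.FiniteType := RingHom.FiniteType.comp
    (RingHom.finiteType_algebraMap.2 inferInstance) (RingHom.FiniteType.of_surjective e ULift.ringEquiv.surjective)
  letI : Algebra (ULift.{u} ℤ) (Algebra.adjoin ℤ (t : Set A)) := α.toAlgebra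
  haveI : Algebra.FiniteType (ULift.{u} ℤ) (Algebra.adjoin ℤ (t : Set A)) := hα
  exact CplFib6.isGRing_of_finiteType (CplFib6.isGRing_of_dedekind (ULift.{u} ℤ)) _

/-- Essential surjectivity, finitely presented case. -/
theorem essSurj_lfp {A : Type u} [CommRing A] (I : Ideal A) [HenselianRing A I] {X : Scheme.{u}}
    (f : X ⟶ Spec (CommRingCat.of A)) [IsProper f] [LocallyOfFinitePresentation f] :
    (FEt.restrict (pullback.fst f (Spec.map (CommRingCat.ofHom (Ideal.Quotient.mk I))))).EssSurj := by
  classical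
  refine ⟨fun V => ?_⟩
  let R := CommRingCat.of A
  let D := ConsPropLib.NoethApprox.diagram R
  let c := ConsPropLib.NoethApprox.cone R
  have hc : IsLimit c := ConsPropLib.NoethApprox.isLimit R
  haveI : IsProper (Y := c.pt) f := ‹IsProper f›
  haveI : LocallyOfFinitePresentation (Y := c.pt) f := ‹LocallyOfFinitePresentation f›
  haveI : ∀ i, IsAffine (D.obj i) := fun i => ConsPropLib.NoethApprox.isAffine_obj R i
  haveI : ∀ {i j : (Finset R)ᵒᵖ} (g : i ⟶ j), IsAffineHom (D.map g) := fun g => isAffineHom_of_isAffine _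
  -- a proper model over a finite type subring
  obtain ⟨i, Xi, fi, g, hm⟩ := ConsPropLib.hasModel hc (show X ⟶ c.pt from f)
  haveI := hm.lfp; haveI := hm.qc; haveI := hm.qs
  obtain ⟨j, φ, hj⟩ := MorLib.Desc.descend D c hc i (P := @IsProper)
    (Q := @LocallyOfFinitePresentation) ConsPropLib.core_isProper fi hm.lfp
    (MorLib.Desc.of_two @IsProper hm.sq (IsPullback.of_hasPullback _ _) ‹IsProper f›)
  let S0 := Algebra.adjoin ℤ ((j.unop : Finset R) : Set A)
  let T := pullback fi (D.map φ)
  let ξ : T ⟶ Spec (CommRingCat.of S0) := pullback.snd fi (D.map φ)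
  haveI : IsProper ξ := hj
  let g' : X ⟶ T := pullback.lift g (f ≫ c.π.app j)
    (by rw [Category.assoc, c.w]; exact hm.sq.w)
  have hX : IsPullback g' f ξ (Spec.map (CommRingCat.ofHom (algebraMap S0 A))) := by
    have : IsPullback g' f (pullback.snd fi (D.map φ)) (c.π.app j) := by
      refine IsPullback.of_right ?_ (pullback.lift_snd _ _ _) (IsPullback.of_hasPullback fi (D.map φ))
      rw [pullback.lift_fst, c.w]
      exact hm.sq
    exact this
  -- descend the cover of the closed fibre
  let i0 := pullback.fst f (Spec.map (CommRingCat.ofHom (Ideal.Quotient.mk I)))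
  let q0 := pullback.snd f (Spec.map (CommRingCat.ofHom (Ideal.Quotient.mk I)))
  have hX0 : IsPullback (i0 ≫ g') q0 ξ (Spec.map (CommRingCat.ofHom (algebraMap S0 (A ⧸ I)))) := by
    have := (IsPullback.of_hasPullback f (Spec.map (CommRingCat.ofHom (Ideal.Quotient.mk I)))).paste_horiz hX
    rw [← Spec.map_comp, ← CommRingCat.ofHom_comp] at this
    exact this
  let e0 := hX0.isoPullback
  haveI : CompactSpace T := QuasiCompact.compactSpace_of_compactSpace ξ
  haveI : QuasiSeparatedSpace T := quasiSeparatedSpace_of_quasiSeparated ξ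
  obtain ⟨t, Vt, pt, hp1, hp2, ⟨et⟩⟩ := Stage.exists_stage (Excellent.rings S0 (A ⧸ I))
    (Excellent.φ S0 (A ⧸ I)) (Excellent.cocone S0 (A ⧸ I)) ξ
    (CommRingCat.ofHom (algebraMap S0 (A ⧸ I))) (Excellent.ha S0 (A ⧸ I))
    (Excellent.isColimit S0 (A ⧸ I)) ((FEt.restrict e0.inv).obj V)
  -- a finite type subring of `A` hitting the stage
  let t' : Finset A := (j.unop : Finset R) ∪ t.image (Function.surjInv (Ideal.Quotient.mk_surjective (I := I)))
  let S := Algebra.adjoin ℤ (t' : Set A)
  let ι : S →+* A := S.val.toRingHom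
  let incl : S0 →+* S :=
    (Subalgebra.inclusion (Algebra.adjoin_mono (Finset.coe_subset.2 Finset.subset_union_left))).toRingHom
  let J0 : Ideal S := I.comap ι
  let κ : S ⧸ J0 →+* A ⧸ I := Ideal.quotientMap I ι le_rfl
  have hκ : Function.Injective κ := Ideal.quotientMap_injective
  have hmem : ∀ z ∈ Algebra.adjoin S0 (t : Set (A ⧸ I)), z ∈ κ.range := by
    intro z hz
    induction hz using Algebra.adjoin_induction with
    | mem x hx =>
      refine ⟨Ideal.Quotient.mk J0 ⟨Function.surjInv Ideal.Quotient.mk_surjective x, Algebra.subset_adjoin ?_⟩, ?_⟩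
      · exact Finset.mem_union_right _ (Finset.mem_image_of_mem _ hx)
      · exact Function.surjInv_eq Ideal.Quotient.mk_surjective x
    | algebraMap r => exact ⟨Ideal.Quotient.mk J0 (incl r), rfl⟩
    | add x y _ _ hx hy => exact add_mem hx hy
    | mul x y _ _ hx hy => exact mul_mem hx hy
  let eκ : (S ⧸ J0) ≃+* κ.range := RingEquiv.ofBijective κ.rangeRestrict
    ⟨fun x y h => hκ (congrArg Subtype.val h), κ.rangeRestrict_surjective⟩
  let St := Algebra.adjoin S0 (t : Set (A ⧸ I))
  let τ : St →+* S ⧸ J0 :=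
    eκ.symm.toRingHom.comp (St.val.toRingHom.codRestrict κ.range fun z => hmem z.1 z.2)
  have hκτ : κ.comp τ = St.val.toRingHom := RingHom.ext fun z =>
    congrArg Subtype.val (eκ.apply_symm_apply ⟨z.1, hmem z.1 z.2⟩)
  have hτ : τ.comp (algebraMap S0 St) = (Ideal.Quotient.mk J0).comp incl := RingHom.ext fun r => hκ
    ((congr($hκτ (algebraMap S0 St r))).trans rfl)
  -- its henselization
  haveI : Algebra.FiniteType ℤ S := Algebra.FiniteType.adjoin_of_finite (Finset.finite_toSet _)
  haveI : IsNoetherianRing S := Algebra.FiniteType.isNoetherianRing ℤ _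
  obtain ⟨B, _, _, hB⟩ := Hensel.exists_isPairHenselization S J0
  haveI : IsNoetherianRing B := Hensel.isNoetherianRing_of_isPairHenselization J0 hB
  have hG : CAlg.IsGRing B := S9276.result S (isGRing_adjoin_int t') J0 B hB
  obtain ⟨ψ, hψ, -⟩ := hB.2 A I ι inferInstance Ideal.map_comap_le
  let J := J0.map (algebraMap S B)
  haveI : HenselianRing B J := hB.1
  have hJ : J ≤ I.comap ψ := Ideal.map_le_iff_le_comap.2 fun s hs => by
    show ψ (algebraMap S B s) ∈ I
    rw [show ψ (algebraMap S B s) = ι s from congr($hψ s)]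
    exact hs
  let ψ' : B ⧸ J →+* A ⧸ I := Ideal.quotientMap I ψ hJ
  let π : S ⧸ J0 →+* B ⧸ J := Ideal.quotientMap J (algebraMap S B) Ideal.le_comap_map
  have hψπ : ψ'.comp π = κ := Ideal.Quotient.ringHom_ext (RingHom.ext fun s =>
    congrArg (Ideal.Quotient.mk I) (congr($hψ s)))
  let γ : S0 →+* B := (algebraMap S B).comp incl
  let fB : pullback ξ (Spec.map (CommRingCat.ofHom γ)) ⟶ Spec (CommRingCat.of B) := pullback.snd _ _
  haveI : IsProper fB := MorphismProperty.pullback_snd _ _ inferInstance
  haveI := essSurj_gRing J hG fB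
  let i' := pullback.fst fB (Spec.map (CommRingCat.ofHom (Ideal.Quotient.mk J)))
  let q' := pullback.snd fB (Spec.map (CommRingCat.ofHom (Ideal.Quotient.mk J)))
  let μ : pullback fB (Spec.map (CommRingCat.ofHom (Ideal.Quotient.mk J))) ⟶
      pullback ξ (Spec.map ((Excellent.φ S0 (A ⧸ I)).app t)) :=
    pullback.lift (i' ≫ pullback.fst _ _) (q' ≫ Spec.map (CommRingCat.ofHom (π.comp τ))) (by
      rw [Category.assoc, pullback.condition, reassoc_of% (pullback.condition (f := fB)
        (g := Spec.map (CommRingCat.ofHom (Ideal.Quotient.mk J)))), Category.assoc, ← Spec.map_comp,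
        ← Spec.map_comp]
      refine congrArg (fun m => q' ≫ Spec.map m) (CommRingCat.hom_ext ?_)
      refine Eq.trans ?_ (congrArg π.comp hτ).symm
      rfl)
  let p : X ⟶ pullback ξ (Spec.map (CommRingCat.ofHom γ)) :=
    pullback.lift g' (f ≫ Spec.map (CommRingCat.ofHom ψ)) (by
      rw [Category.assoc, ← Spec.map_comp, hX.w]
      refine congrArg (fun m => f ≫ Spec.map m) (CommRingCat.hom_ext (RingHom.ext fun r => ?_))
      exact (congr($hψ (incl r))).symm)
  let p0 : pullback f (Spec.map (CommRingCat.ofHom (Ideal.Quotient.mk I))) ⟶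
      pullback fB (Spec.map (CommRingCat.ofHom (Ideal.Quotient.mk J))) :=
    pullback.lift (i0 ≫ p) (q0 ≫ Spec.map (CommRingCat.ofHom ψ')) (by
      rw [Category.assoc, pullback.lift_snd, ← Category.assoc, pullback.condition, Category.assoc,
        Category.assoc, ← Spec.map_comp, ← Spec.map_comp]
      rfl)
  have hw : p0 ≫ μ = e0.hom ≫ pt := by
    refine pullback.hom_ext ?_ ?_
    · rw [Category.assoc, Category.assoc, hp1, pullback.lift_fst, hX0.isoPullback_hom_fst,
        pullback.lift_fst_assoc, Category.assoc, pullback.lift_fst]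
    · rw [Category.assoc, Category.assoc, hp2, pullback.lift_snd, hX0.isoPullback_hom_snd_assoc,
        pullback.lift_snd_assoc, Category.assoc, ← Spec.map_comp]
      refine congrArg (fun m => q0 ≫ Spec.map m) (CommRingCat.hom_ext ?_)
      show ψ'.comp (π.comp τ) = St.val.toRingHom
      rw [← RingHom.comp_assoc, hψπ, hκτ]
  refine exists_lift_of_square i0 i' p0 p (pullback.lift_fst _ _ _) V ((FEt.restrict μ).obj Vt) ?_
  exact compIso p0 μ Vt ≪≫ congrIso hw Vt ≪≫ (compIso e0.hom pt Vt).symm ≪≫
    (FEt.restrict e0.hom).mapIso et ≪≫ compIso e0.hom e0.inv V ≪≫ congrIso e0.hom_inv_id V ≪≫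
    restrictIdIso V

/-- Essential surjectivity for any proper scheme over a henselian pair. -/
theorem essSurj_proper {A : Type u} [CommRing A] (I : Ideal A) [HenselianRing A I] {X : Scheme.{u}}
    (f : X ⟶ Spec (CommRingCat.of A)) [IsProper f] :
    (FEt.restrict (pullback.fst f (Spec.map (CommRingCat.ofHom (Ideal.Quotient.mk I))))).EssSurj := by
  refine ⟨fun V => ?_⟩
  obtain ⟨K, _, _, DO, c, hc, e, hci, hp⟩ := Groth.Agent.S2079.result f
  haveI : IsConnected K := IsCofiltered.isConnected K
  let m := Spec.map (CommRingCat.ofHom (Ideal.Quotient.mk I))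
  haveI : IsClosedImmersion m := IsClosedImmersion.spec_of_surjective _ Ideal.Quotient.mk_surjective
  let D0 := DO ⋙ Over.pullback m ⋙ Over.forget (Spec (CommRingCat.of (A ⧸ I)))
  let c0 := (Over.forget (Spec (CommRingCat.of (A ⧸ I)))).mapCone ((Over.pullback m).mapCone c)
  have hc0 : IsLimit c0 := isLimitOfPreserves _ (isLimitOfPreserves _ hc)
  haveI hfst : ∀ k, IsAffineHom (pullback.fst (DO.obj k).hom m) := fun k =>
    MorphismProperty.pullback_fst _ _ inferInstance
  haveI : ∀ (k l : K) (a : k ⟶ l), IsAffineHom (D0.map a) := fun k l a => by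
    haveI := hci k l a
    haveI : IsAffineHom (D0.map a ≫ pullback.fst (DO.obj l).hom m) := by
      rw [show D0.map a ≫ pullback.fst (DO.obj l).hom m = pullback.fst (DO.obj k).hom m ≫ (DO.map a).left from
        pullback.lift_fst _ _ _]
      infer_instance
    exact IsAffineHom.of_comp (D0.map a) (pullback.fst (DO.obj l).hom m)
  haveI : ∀ k, CompactSpace (D0.obj k) := fun k => by
    haveI := (hp k).2.1
    haveI : CompactSpace (DO.obj k).left := QuasiCompact.compactSpace_of_compactSpace (DO.obj k).hom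
    show CompactSpace ↥(pullback (DO.obj k).hom m)
    exact QuasiCompact.compactSpace_of_compactSpace (pullback.fst (DO.obj k).hom m)
  haveI : ∀ k, QuasiSeparatedSpace (D0.obj k) := fun k => by
    haveI := (hp k).2.1
    haveI : QuasiSeparatedSpace (DO.obj k).left := quasiSeparatedSpace_of_quasiSeparated (DO.obj k).hom
    show QuasiSeparatedSpace ↥(pullback (DO.obj k).hom m)
    exact quasiSeparatedSpace_of_quasiSeparated (pullback.fst (DO.obj k).hom m)
  let κ := ((Over.pullback m).map e.hom).left
  let κ' := ((Over.pullback m).map e.inv).left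
  have hκ : κ' ≫ κ = 𝟙 _ := by
    show ((Over.pullback m).map e.inv ≫ (Over.pullback m).map e.hom).left = _
    rw [← Functor.map_comp, e.inv_hom_id, CategoryTheory.Functor.map_id]
    rfl
  obtain ⟨k, Vk, ⟨ek⟩⟩ := (Groth.Agent.S12073.result D0 c0 hc0).1 ((FEt.restrict κ).obj V)
  haveI := (hp k).2.1
  haveI := (hp k).2.2
  haveI := essSurj_lfp I (DO.obj k).hom
  refine exists_lift_of_square (pullback.fst f m) (pullback.fst (DO.obj k).hom m)
    (κ' ≫ c0.π.app k) (e.inv.left ≫ (c.π.app k).left) ?_ V Vk
    ((compIso κ' (c0.π.app k) Vk).symm ≪≫ (FEt.restrict κ').mapIso ek ≪≫ compIso κ' κ V ≪≫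
      congrIso hκ V ≪≫ restrictIdIso V)
  refine (Category.assoc _ _ _).trans ((congrArg (κ' ≫ ·) (pullback.lift_fst _ _ _)).trans ?_)
  exact (Category.assoc _ _ _).symm.trans
    ((congrArg (· ≫ (c.π.app k).left) (pullback.lift_fst _ _ _)).trans (Category.assoc _ _ _))

/-- Restriction to the closed fibre is an equivalence for proper schemes over henselian pairs. -/
theorem isEquivalence_proper {A : Type u} [CommRing A] (I : Ideal A) [HenselianRing A I] {X : Scheme.{u}}
    (f : X ⟶ Spec (CommRingCat.of A)) [IsProper f] :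
    (FEt.restrict (pullback.fst f (Spec.map (CommRingCat.ofHom (Ideal.Quotient.mk I))))).IsEquivalence := by
  haveI := (fullyFaithful_proper I f).1
  haveI := (fullyFaithful_proper I f).2
  haveI := essSurj_proper I f
  exact { }

end Groth.Agent.Pi1Ext.FAlg
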