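import Groth.Agent.LocalCrit.Flatness
import Groth.Agent.Hensel.HfpTruncation
import Mathlib.RingTheory.Spectrum.Prime.FreeLocus
import Mathlib.RingTheory.RingHom.Etale

/-!
# Flatness and étaleness from all thickenings
-/

set_option linter.style.haveILetI false
set_option linter.unusedSectionVars false

universe u

open TensorProduct

noncomputable section

namespace Groth.Agent.Pi1Ext.FAlg

variable {B C : Type u} [CommRing B] [CommRing C] [Algebra B C]

/-- Transport of a property of the quotient map. -/
theorem quotientMap_of_surjective (Q : ∀ {R S : Type u} [CommRing R] [CommRing S], (R →+* S) → Prop)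
    (hQ : RingHom.RespectsIso Q) (J : Ideal B) {E D : Type u} [CommRing E] [CommRing D] (g : B →+* E)
    (h : C →+* D) (e : E →+* D) (hc : h.comp (algebraMap B C) = e.comp g) (hg : Function.Surjective g)
    (hgk : RingHom.ker g = J) (hh : Function.Surjective h) (hhk : RingHom.ker h = J.map (algebraMap B C))
    (he : Q e) : Q (algebraMap (B ⧸ J) (C ⧸ J.map (algebraMap B C))) := by
  let eg : (B ⧸ J) ≃+* E := (Ideal.quotEquivOfEq hgk.symm).trans (RingHom.quotientKerEquivOfSurjective hg)
  let eh : (C ⧸ J.map (algebraMap B C)) ≃+* D :=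
    (Ideal.quotEquivOfEq hhk.symm).trans (RingHom.quotientKerEquivOfSurjective hh)
  have key : algebraMap (B ⧸ J) (C ⧸ J.map (algebraMap B C)) =
      eh.symm.toRingHom.comp (e.comp eg.toRingHom) := by
    refine RingHom.ext fun x => eh.injective ?_
    obtain ⟨b, rfl⟩ := Ideal.Quotient.mk_surjective x
    show eh _ = eh (eh.symm (e (eg (Ideal.Quotient.mk J b))))
    rw [RingEquiv.apply_symm_apply]
    exact congr($hc b)
  rw [key]
  exact hQ.1 _ eh.symm (hQ.2 _ eg he)

/-- Flat truncations. -/
theorem flat_truncation_tensor (J : Ideal B) (h : RingHom.Flat (algebraMap (B ⧸ J) (C ⧸ J.map (algebraMap B C)))) :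
    Module.Flat (B ⧸ J) ((B ⧸ J) ⊗[B] C) := by
  haveI : Module.Flat (B ⧸ J) (C ⧸ J.map (algebraMap B C)) := RingHom.flat_algebraMap_iff.mp h
  let e₁ : ((B ⧸ J) ⊗[B] C) ≃ₐ[B] (C ⧸ J.map (algebraMap B C)) :=
    ((Algebra.TensorProduct.quotIdealMapEquivTensorQuot C J).restrictScalars B |>.trans
      (Algebra.TensorProduct.comm B C (B ⧸ J))).symm
  let e₂ : ((B ⧸ J) ⊗[B] C) ≃ₐ[B ⧸ J] (C ⧸ J.map (algebraMap B C)) := AlgEquiv.ofRingEquiv (f := e₁.toRingEquiv)
    fun a => by
      obtain ⟨a, rfl⟩ := Ideal.Quotient.mk_surjective a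
      exact e₁.commutes a
  exact Module.Flat.of_linearEquiv e₂.toLinearEquiv

/-- A finite module whose truncations are flat is free at the primes containing the ideal. -/
theorem mem_freeLocus_of_truncations [IsNoetherianRing B] (M : Type u) [AddCommGroup M] [Module B M]
    [Module.Finite B M] (J : Ideal B) (h : ∀ n, Module.Flat (B ⧸ J ^ n) ((B ⧸ J ^ n) ⊗[B] M))
    (p : PrimeSpectrum B) (hp : J ≤ p.asIdeal) : p ∈ Module.freeLocus B M := by
  let R := Localization.AtPrime p.asIdeal
  rw [Module.mem_freeLocus_iff_tensor p R]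
  let J' := J.map (algebraMap B R)
  have hjac : J'.map (algebraMap R R) ≤ Ideal.jacobson ⊥ := by
    rw [Algebra.algebraMap_self, Ideal.map_id, IsLocalRing.jacobson_eq_maximalIdeal _ bot_ne_top,
      ← Localization.AtPrime.map_eq_maximalIdeal]
    exact Ideal.map_mono hp
  haveI : Module.Flat R (R ⊗[B] M) := by
    refine Groth.Agent.LocalCrit.flat_of_forall_quotient_pow (B := R) J' hjac fun n => ?_
    let T := R ⧸ J' ^ n
    let φ : (B ⧸ J ^ n) →+* T := Ideal.quotientMap (J' ^ n) (algebraMap B R)
      (Ideal.map_le_iff_le_comap.mp (Ideal.map_pow _ _ _).le)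
    letI : Algebra (B ⧸ J ^ n) T := φ.toAlgebra
    haveI : IsScalarTower B (B ⧸ J ^ n) T := IsScalarTower.of_algebraMap_eq fun b => rfl
    haveI := h n
    let e : T ⊗[R] (R ⊗[B] M) ≃ₗ[T] T ⊗[B ⧸ J ^ n] ((B ⧸ J ^ n) ⊗[B] M) :=
      (AlgebraTensorModule.cancelBaseChange B R T T M).trans
        (AlgebraTensorModule.cancelBaseChange B (B ⧸ J ^ n) T T M).symm
    haveI : Module.Flat T (T ⊗[R] (R ⊗[B] M)) := Module.Flat.of_linearEquiv e
    exact Groth.Agent.LocalCrit.keepsInjective_of_flat (J' ^ n) (R ⊗[B] M)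
  haveI : Module.FinitePresentation R (R ⊗[B] M) := Module.finitePresentation_of_finite _ _
  exact Module.free_of_flat_of_isLocalRing

/-- Flatness over a basic open of the free locus. -/
theorem flat_away_of_subset_freeLocus (f : B) [Module.FinitePresentation B C]
    (hf : (PrimeSpectrum.basicOpen f : Set (PrimeSpectrum B)) ⊆ Module.freeLocus B C)
    (B' C' : Type u) [CommRing B'] [CommRing C'] [Algebra B B'] [Algebra C C'] [Algebra B' C'] [Algebra B C']
    [IsScalarTower B C C'] [IsScalarTower B B' C'] [IsLocalization.Away f B']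
    [IsLocalization.Away (algebraMap B C f) C'] : Module.Flat B' C' := by
  haveI := Module.basicOpen_subset_freeLocus_iff.mp hf
  haveI : Module.Flat B (LocalizedModule.Away f C) :=
    Module.Flat.trans B (Localization.Away f) _
  haveI : IsLocalization (Algebra.algebraMapSubmonoid C (Submonoid.powers f)) C' := by
    rw [Algebra.algebraMapSubmonoid, Submonoid.map_powers]
    assumption
  haveI : IsLocalizedModule (Submonoid.powers f) (IsScalarTower.toAlgHom B C C').toLinearMap :=
    isLocalizedModule_iff_isLocalization.mpr inferInstance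
  haveI : Module.Flat B C' := Module.Flat.of_linearEquiv
    (IsLocalizedModule.iso (Submonoid.powers f) (IsScalarTower.toAlgHom B C C').toLinearMap).symm
  exact (Module.flat_iff_of_isLocalization B' (Submonoid.powers f) C').mpr inferInstance

end Groth.Agent.Pi1Ext.FAlg
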