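import Groth.Agent.AmpleVan.ThickPush
import Groth.Agent.QCoh.Stalk
import Groth.Agent.ProperComp7.Main
import Mathlib.RingTheory.Filtration

/-!
# The closed fibre of a proper scheme over a complete ring
-/

set_option linter.style.haveILetI false
set_option backward.isDefEq.respectTransparency false
set_option backward.isDefEq.respectTransparency.types false

universe u

open CategoryTheory CategoryTheory.Limits AlgebraicGeometry TopologicalSpace Opposite

noncomputable section

namespace Groth.Agent.Pi1Ext.FAlg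

open Groth.Agent Groth.Agent.AmpleVan

variable {A : Type u} [CommRing A] {X : Scheme.{u}} [X.Over (Spec (CommRingCat.of A))]

/-- A point lies over the zero locus of `I`. -/
def InFib (I : Ideal A) (x : X) : Prop :=
  ∀ a ∈ I, x ∉ X.basicOpen (Coh.toGlobal (X ↘ Spec (CommRingCat.of A)) a)

theorem inFib_iff [IsNoetherianRing A] {I : Ideal A} [IsAdicComplete I A] [IsProper (X ↘ Spec (CommRingCat.of A))]
    (x : X) : InFib I x ↔ I ≤ ((X ↘ Spec (CommRingCat.of A)) x).asIdeal := by
  refine forall₂_congr fun a _ => ?_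
  rw [ProperComp7.mem_basicOpen_toGlobal]
  exact not_not

/-- An open subset of a proper scheme containing the closed fibre is everything. -/
theorem eq_univ_of_inFib [IsNoetherianRing A] {I : Ideal A} [IsAdicComplete I A]
    [IsProper (X ↘ Spec (CommRingCat.of A))] {W : Set X} (hW : IsOpen W) (h : ∀ x, InFib I x → x ∈ W) (x : X) :
    x ∈ W := by
  by_contra hx
  let f := X ↘ Spec (CommRingCat.of A)
  obtain ⟨m, hm, hle⟩ := Ideal.exists_le_maximal (f x).asIdeal (f x).isPrime.ne_top
  let p : PrimeSpectrum A := ⟨m, hm.isPrime⟩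
  obtain ⟨z, hz, hzp⟩ : p ∈ f '' Wᶜ :=
    (f.isClosedMap Wᶜ hW.isClosed_compl).stableUnderSpecialization
      ((PrimeSpectrum.le_iff_specializes _ _).mp hle) ⟨x, hx, rfl⟩
  refine hz (h z ((inFib_iff z).2 ?_))
  show I ≤ (f z).asIdeal
  rw [hzp]
  exact (IsAdicComplete.le_jacobson_bot I).trans (sInf_le ⟨bot_le, hm⟩)

theorem germ_scal_mem_maximalIdeal {I : Ideal A} {x : X} (hI : InFib I x) {U : X.Opens} (hx : x ∈ U) {a : A}
    (ha : a ∈ I) : X.presheaf.germ U x hx (scal A U a) ∈ IsLocalRing.maximalIdeal (X.presheaf.stalk x) := by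
  rw [IsLocalRing.mem_maximalIdeal, mem_nonunits_iff]
  intro h
  have e : X.presheaf.germ U x hx (scal A U a) =
      X.presheaf.germ ⊤ x trivial (Coh.toGlobal (X ↘ Spec (CommRingCat.of A)) a) :=
    X.presheaf.germ_res_apply (homOfLE le_top) x hx _
  rw [e] at h
  exact hI a ha ((X.mem_basicOpen _ x (show x ∈ (⊤ : X.Opens) from trivial)).2 h)

/-- Krull intersection at a point of the closed fibre. -/
theorem germ_eq_zero_of_forall_mem [IsLocallyNoetherian X] {I : Ideal A} {M : X.Modules} (hM : Coh.IsCoh M) {x : X}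
    (hI : InFib I x) {U : X.Opens} (hx : x ∈ U) (m : Γ(M, U))
    (h : ∀ n, m ∈ (I ^ (n + 1)).map (scal A U) • (⊤ : Submodule Γ(X, U) Γ(M, U))) :
    M.presheaf.germ U x hx m = 0 := by
  haveI := QCoh.finite_stalk_of_isFT hM.1 hM.2 x
  let R := X.presheaf.stalk x
  let g : Γ(X, U) →+* R := (X.presheaf.germ U x hx).hom
  letI := g.toAlgebra
  have key : ∀ n, M.presheaf.germ U x hx m ∈
      (IsLocalRing.maximalIdeal R) ^ n • (⊤ : Submodule R (M.presheaf.stalk x)) := by
    intro n
    have h1 : ((I ^ (n + 1)).map (scal A U)).map g ≤ (IsLocalRing.maximalIdeal R) ^ (n + 1) := by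
      rw [Ideal.map_map, Ideal.map_pow]
      refine Ideal.pow_right_mono (Ideal.map_le_iff_le_comap.2 fun a ha => ?_) _
      exact germ_scal_mem_maximalIdeal hI hx ha
    refine Submodule.smul_mono_left (Ideal.pow_le_pow_right (Nat.le_succ n)) ?_
    refine Submodule.smul_induction_on (h n) (fun c hc v _ => ?_) fun v w hv hw => ?_
    · rw [QCoh.germ_smul']
      exact Submodule.smul_mem_smul (h1 (Ideal.mem_map_of_mem g hc)) trivial
    · rw [map_add]; exact add_mem hv hw
  have h2 := Ideal.iInf_pow_smul_eq_bot_of_le_jacobson (M := M.presheaf.stalk x) (IsLocalRing.maximalIdeal R)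
    (IsLocalRing.maximalIdeal_le_jacobson _)
  have h3 : M.presheaf.germ U x hx m ∈
      (⨅ n : ℕ, (IsLocalRing.maximalIdeal R) ^ n • (⊤ : Submodule R (M.presheaf.stalk x))) :=
    (Submodule.mem_iInf _).2 key
  rwa [h2, Submodule.mem_bot] at h3

end Groth.Agent.Pi1Ext.FAlg
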