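import Groth.Agent.Pi1Ext.FAlg.Mod
import Groth.Agent.Pi1Ext.FAlg.Fibre
import Groth.Agent.H23.TensorDesc
import Groth.Agent.ParShLib.ResStalk

/-!
# The multiplication on the algebraisation
-/

set_option linter.style.haveILetI false
set_option backward.isDefEq.respectTransparency false
set_option backward.isDefEq.respectTransparency.types false

universe u

open CategoryTheory CategoryTheory.Limits AlgebraicGeometry TopologicalSpace Opposite MonoidalCategory
open scoped TensorProduct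

noncomputable section

namespace Groth.Agent.Pi1Ext.FAlg

open Groth.Agent Groth.Agent.AmpleVan Groth.Agent.H23

section tensor

variable {X : Scheme.{u}} {M N P : X.Modules}

theorem tensor_hom_ext {f g : CohB1.tensorMod M N ⟶ P}
    (h : ∀ (U : X.Opens) (m : M.val.obj (op U)) (n : N.val.obj (op U)),
      (f.val.app (op U)).hom (SecTwist.tmul M N U m n) = (g.val.app (op U)).hom (SecTwist.tmul M N U m n)) :
    f = g := by
  let adj := PresheafOfModules.sheafificationAdjunction.{u, u, u, u}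
    (J := Opens.grothendieckTopology X) (𝟙 X.ringCatSheaf.obj)
  refine (adj.homEquiv (show X.PresheafOfModules from CohB1.tensorPre M N) P).injective ?_
  rw [adj.homEquiv_unit, adj.homEquiv_unit]
  refine PresheafOfModules.hom_ext fun U => ?_
  exact ModuleCat.MonoidalCategory.tensor_ext fun m n => h U.unop m n

theorem tmul_add_left (U : X.Opens) (m m' : M.val.obj (op U)) (n : N.val.obj (op U)) :
    SecTwist.tmul M N U (m + m') n = SecTwist.tmul M N U m n + SecTwist.tmul M N U m' n :=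
  (congrArg ((SecTwist.toTensor M N).app (op U)).hom (TensorProduct.add_tmul m m' n)).trans (map_add _ _ _)

theorem tmul_add_right (U : X.Opens) (m : M.val.obj (op U)) (n n' : N.val.obj (op U)) :
    SecTwist.tmul M N U m (n + n') = SecTwist.tmul M N U m n + SecTwist.tmul M N U m n' :=
  (congrArg ((SecTwist.toTensor M N).app (op U)).hom (TensorProduct.tmul_add m n n')).trans (map_add _ _ _)

theorem tmul_smul_left (U : X.Opens) (c : Γ(X, U)) (m : Γ(M, U)) (n : Γ(N, U)) :
    SecTwist.tmul M N U (c • m : Γ(M, U)) n = (c • (show Γ(CohB1.tensorMod M N, U) from SecTwist.tmul M N U m n) :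
      Γ(CohB1.tensorMod M N, U)) :=
  QCoh.tmS_smul_left M N c m n

theorem tmul_smul_right (U : X.Opens) (c : Γ(X, U)) (m : Γ(M, U)) (n : Γ(N, U)) :
    SecTwist.tmul M N U m (c • n : Γ(N, U)) = (c • (show Γ(CohB1.tensorMod M N, U) from SecTwist.tmul M N U m n) :
      Γ(CohB1.tensorMod M N, U)) :=
  QCoh.tmS_smul_right M N c m n

end tensor

variable {A : Type u} [CommRing A] {I : Ideal A} {X : Scheme.{u}} [X.Over (Spec (CommRingCat.of A))]

namespace FSys

variable (S : FSys I X)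

/-- The unit of a level. -/
def unitG (n : ℕ) : Coh.structureModule X ⟶ S.G n :=
  ⟨PresheafOfModules.homMk
    { app := fun U => AddCommGrpCat.ofHom ((S.b n).app U.unop).hom.toAddMonoidHom
      naturality := fun U V i => by
        ext z
        exact congr($((S.b n).naturality i) z) }
    fun U r m => map_mul ((S.b n).app U.unop).hom r m⟩

theorem unitG_step (n : ℕ) : S.unitG (n + 1) ≫ S.step n = S.unitG n :=
  QCoh.hom_ext_app fun U z => congr($(S.resY_b n U) z)

variable [IsLocallyNoetherian X]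

namespace Alg

variable {S} (R : S.Alg)

/-- The value of a section at a level, as a function. -/
def ev (n : ℕ) (U : X.Opens) (x : Γ(R.M, U)) : Γ(S.Y n, S.b n ⁻¹ᵁ U) := (R.r n).app U x

theorem ev_add (n : ℕ) (U : X.Opens) (x y : Γ(R.M, U)) : R.ev n U (x + y) = R.ev n U x + R.ev n U y :=
  map_add ((R.r n).app U).hom x y

theorem ev_smul (n : ℕ) (U : X.Opens) (c : Γ(X, U)) (x : Γ(R.M, U)) :
    R.ev n U (c • x) = (S.b n).app U c * R.ev n U x :=
  (R.r n).app_smul c x

theorem ev_res (n : ℕ) {U V : X.Opens} (h : V ≤ U) (x : Γ(R.M, U)) :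
    R.ev n V (R.M.presheaf.map (homOfLE h).op x) =
      (S.Y n).presheaf.map (homOfLE ((S.b n).preimage_mono h)).op (R.ev n U x) :=
  R.r_res n h x

/-- The bilinear product at a level. -/
def bil (n : ℕ) : TensorDesc.Bilin R.M R.M (S.G n) where
  b U x y := show Γ(S.Y n, S.b n ⁻¹ᵁ U) from R.ev n U x * R.ev n U y
  add_left U x x' y := by
    show R.ev n U (x + x') * R.ev n U y = R.ev n U x * R.ev n U y + R.ev n U x' * R.ev n U y
    rw [ev_add, add_mul]
  smul_left U c x y := by
    show R.ev n U (c • x) * R.ev n U y = (S.b n).app U c * (R.ev n U x * R.ev n U y)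
    rw [ev_smul, mul_assoc]
  add_right U x y y' := by
    show R.ev n U x * R.ev n U (y + y') = R.ev n U x * R.ev n U y + R.ev n U x * R.ev n U y'
    rw [ev_add, mul_add]
  smul_right U c x y := by
    show R.ev n U x * R.ev n U (c • y) = (S.b n).app U c * (R.ev n U x * R.ev n U y)
    rw [ev_smul, mul_left_comm]
  res {U V} h x y := by
    show (S.Y n).presheaf.map (homOfLE ((S.b n).preimage_mono h)).op (R.ev n U x * R.ev n U y) =
      R.ev n V (R.M.presheaf.map (homOfLE h).op x) * R.ev n V (R.M.presheaf.map (homOfLE h).op y)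
    rw [map_mul, ev_res, ev_res]

theorem ev_step (n : ℕ) (U : X.Opens) (x : Γ(R.M, U)) : S.resY n U (R.ev (n + 1) U x) = R.ev n U x :=
  congr(($(R.r_step n)).app U x)

variable [IsNoetherianRing A] [IsAdicComplete I A] [IsProper (X ↘ Spec (CommRingCat.of A))]

theorem exists_μ : ∃ φ : CohB1.tensorMod R.M R.M ⟶ R.M, ∀ n, φ ≫ R.r n = TensorDesc.desc (R.bil n) := by
  refine R.exists_lift (ParShLib.isCoh_tensorMod R.coh R.coh) _ fun n => tensor_hom_ext fun U x y => ?_
  show (S.step n).app U ((TensorDesc.desc (R.bil (n + 1))).val.app (op U) (SecTwist.tmul _ _ U x y)) = _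
  rw [TensorDesc.desc_tmul, TensorDesc.desc_tmul]
  show S.resY n U (R.ev (n + 1) U x * R.ev (n + 1) U y) = R.ev n U x * R.ev n U y
  rw [map_mul, ev_step, ev_step]

/-- The multiplication. -/
def μ : CohB1.tensorMod R.M R.M ⟶ R.M := R.exists_μ.choose

/-- The product of sections. -/
def mul (U : X.Opens) (x y : Γ(R.M, U)) : Γ(R.M, U) := R.μ.app U (SecTwist.tmul R.M R.M U x y)

theorem ev_mul (n : ℕ) (U : X.Opens) (x y : Γ(R.M, U)) : R.ev n U (R.mul U x y) = R.ev n U x * R.ev n U y := by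
  refine (congr(($(R.exists_μ.choose_spec n)).app U (SecTwist.tmul R.M R.M U x y))).trans ?_
  exact TensorDesc.desc_tmul (R.bil n) U x y

theorem mul_add (U : X.Opens) (x y z : Γ(R.M, U)) : R.mul U x (y + z) = R.mul U x y + R.mul U x z :=
  (congrArg (R.μ.app U) (tmul_add_right U x y z)).trans (map_add (R.μ.app U).hom _ _)

theorem add_mul (U : X.Opens) (x y z : Γ(R.M, U)) : R.mul U (x + y) z = R.mul U x z + R.mul U y z :=
  (congrArg (R.μ.app U) (tmul_add_left U x y z)).trans (map_add (R.μ.app U).hom _ _)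

theorem smul_mul (U : X.Opens) (c : Γ(X, U)) (x y : Γ(R.M, U)) : R.mul U (c • x) y = c • R.mul U x y :=
  (congrArg (R.μ.app U) (tmul_smul_left U c x y)).trans (R.μ.app_smul c _)

theorem mul_smul' (U : X.Opens) (c : Γ(X, U)) (x y : Γ(R.M, U)) : R.mul U x (c • y) = c • R.mul U x y :=
  (congrArg (R.μ.app U) (tmul_smul_right U c x y)).trans (R.μ.app_smul c _)

theorem mul_res {U V : X.Opens} (h : V ≤ U) (x y : Γ(R.M, U)) :
    R.M.presheaf.map (homOfLE h).op (R.mul U x y) =
      R.mul V (R.M.presheaf.map (homOfLE h).op x) (R.M.presheaf.map (homOfLE h).op y) :=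
  (QCoh.map_app_comm R.μ (homOfLE h) _).symm.trans
    (congrArg (R.μ.app V) (SecTwist.map_tmul R.M R.M (homOfLE h) x y))

/-- The multiplication with the factors exchanged. -/
def swapBil : TensorDesc.Bilin R.M R.M R.M where
  b U x y := R.mul U y x
  add_left U x x' y := R.mul_add U y x x'
  smul_left U c x y := R.mul_smul' U c y x
  add_right U x y y' := R.add_mul U y y' x
  smul_right U c x y := R.smul_mul U c y x
  res h x y := R.mul_res h y x

theorem mul_comm' (U : X.Opens) (x y : Γ(R.M, U)) : R.mul U x y = R.mul U y x := by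
  have h : R.μ = TensorDesc.desc R.swapBil :=
    R.hom_ext (ParShLib.isCoh_tensorMod R.coh R.coh) fun n => tensor_hom_ext fun V a b => by
      show R.ev n V (R.mul V a b) = R.ev n V ((TensorDesc.desc R.swapBil).val.app (op V) (SecTwist.tmul _ _ V a b))
      rw [TensorDesc.desc_tmul]
      show _ = R.ev n V (R.mul V b a)
      rw [ev_mul, ev_mul, mul_comm]
  exact congr(($h).app U (SecTwist.tmul R.M R.M U x y)).trans (TensorDesc.desc_tmul R.swapBil U x y)

theorem exists_η : ∃ φ : Coh.structureModule X ⟶ R.M, ∀ n, φ ≫ R.r n = S.unitG n :=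
  R.exists_lift QCoh.isCoh_structureModule' _ S.unitG_step

/-- The unit map. -/
def η : Coh.structureModule X ⟶ R.M := R.exists_η.choose

/-- The structure map on sections. -/
def emb (U : X.Opens) (c : Γ(X, U)) : Γ(R.M, U) := R.η.app U c

theorem ev_emb (n : ℕ) (U : X.Opens) (c : Γ(X, U)) : R.ev n U (R.emb U c) = (S.b n).app U c :=
  congr(($(R.exists_η.choose_spec n)).app U c)

theorem emb_res {U V : X.Opens} (h : V ≤ U) (c : Γ(X, U)) :
    R.M.presheaf.map (homOfLE h).op (R.emb U c) = R.emb V (X.presheaf.map (homOfLE h).op c) :=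
  (QCoh.map_app_comm R.η (homOfLE h) c).symm

theorem smul_emb (U : X.Opens) (c d : Γ(X, U)) : c • R.emb U d = R.emb U (c * d) :=
  (R.η.app_smul c (d : Γ(Coh.structureModule X, U))).symm

/-- Multiplication by one, as a map of modules. -/
def oneMulHom : R.M ⟶ R.M :=
  ⟨PresheafOfModules.homMk
    { app := fun U => AddCommGrpCat.ofHom
        (AddMonoidHom.mk' (fun x : Γ(R.M, U.unop) => R.mul U.unop (R.emb U.unop 1) x) (R.mul_add U.unop _))
      naturality := fun U V i => by
        ext z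
        show R.mul V.unop (R.emb V.unop 1) (R.M.presheaf.map (homOfLE i.unop.le).op z) =
          R.M.presheaf.map (homOfLE i.unop.le).op (R.mul U.unop (R.emb U.unop 1) z)
        rw [mul_res, emb_res, map_one] }
    fun U r m => R.mul_smul' U.unop r _ m⟩

theorem one_mul' (U : X.Opens) (x : Γ(R.M, U)) : R.mul U (R.emb U 1) x = x := by
  have h : R.oneMulHom = 𝟙 R.M := R.hom_ext R.coh fun n => QCoh.hom_ext_app fun V z => by
    show R.ev n V (R.mul V (R.emb V 1) z) = R.ev n V z
    rw [ev_mul, ev_emb, map_one, one_mul]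
  exact congr(($h).app U x)

/-- The associator vanishes at a point. -/
def AssocAt (p : X) : Prop :=
  ∀ (U : X.Opens) (hp : p ∈ U) (a b c : Γ(R.M, U)),
    R.M.presheaf.germ U p hp (R.mul U (R.mul U a b) c - R.mul U a (R.mul U b c)) = 0

/-- The associator. -/
def asr (U : X.Opens) (a b c : Γ(R.M, U)) : Γ(R.M, U) := R.mul U (R.mul U a b) c - R.mul U a (R.mul U b c)

theorem asr_res {U V : X.Opens} (h : V ≤ U) (a b c : Γ(R.M, U)) :
    R.M.presheaf.map (homOfLE h).op (R.asr U a b c) = R.asr V (R.M.presheaf.map (homOfLE h).op a)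
      (R.M.presheaf.map (homOfLE h).op b) (R.M.presheaf.map (homOfLE h).op c) := by
  rw [asr, asr, map_sub, mul_res, mul_res, mul_res, mul_res]

theorem assocAt_inFib {p : X} (hp : InFib I p) : R.AssocAt p := by
  intro U hpU a b c
  obtain ⟨_, ⟨W, hW, rfl⟩, hpW, hWU⟩ := X.isBasis_affineOpens.exists_subset_of_mem_open hpU U.isOpen
  rw [← R.M.presheaf.germ_res_apply (homOfLE hWU) p hpW]
  refine germ_eq_zero_of_forall_mem R.coh hp hpW _ fun n => (R.r_eq_zero_iff n hW _).1 ?_
  have e := R.asr_res (show W ≤ U from hWU) a b c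
  refine Eq.trans (congrArg (R.ev n W) e) ?_
  show (R.r n).app W (_ - _) = 0
  rw [map_sub, sub_eq_zero]
  show R.ev n W _ = R.ev n W _
  rw [ev_mul, ev_mul, ev_mul, ev_mul, mul_assoc]

/-- The trilinear associator in each variable. -/
theorem asr_add_smul₁ (U : X.Opens) (r : Γ(X, U)) (a a' b c : Γ(R.M, U)) :
    R.asr U (r • a + a') b c = r • R.asr U a b c + R.asr U a' b c := by
  simp only [asr, add_mul, smul_mul, smul_sub]; abel

theorem asr_add_smul₂ (U : X.Opens) (r : Γ(X, U)) (a b b' c : Γ(R.M, U)) :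
    R.asr U a (r • b + b') c = r • R.asr U a b c + R.asr U a b' c := by
  simp only [asr, add_mul, mul_add, smul_mul, mul_smul', smul_sub]; abel

theorem asr_add_smul₃ (U : X.Opens) (r : Γ(X, U)) (a b c c' : Γ(R.M, U)) :
    R.asr U a b (r • c + c') = r • R.asr U a b c + R.asr U a b c' := by
  simp only [asr, mul_add, mul_smul', smul_sub]; abel

/-- Generators make multiples of the associator vanish. -/
theorem asr_eq_zero_of_gen {U : X.Opens} (g : Γ(X, U)) {G : Set Γ(R.M, U)}
    (hG : ∀ a ∈ G, ∀ b ∈ G, ∀ c ∈ G, g • R.asr U a b c = 0) {a b c : Γ(R.M, U)}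
    (ha : a ∈ Submodule.span Γ(X, U) G) (hb : b ∈ Submodule.span Γ(X, U) G) (hc : c ∈ Submodule.span Γ(X, U) G) :
    g • R.asr U a b c = 0 := by
  have hlin : ∀ (f : Γ(R.M, U) → Γ(R.M, U)), (∀ (r : Γ(X, U)) (x y : Γ(R.M, U)), f (r • x + y) = r • f x + f y) → (∀ x ∈ G, g • f x = 0) →
      ∀ x ∈ Submodule.span Γ(X, U) G, g • f x = 0 := fun f hf hfG x hx => by
    have h0 : f 0 = 0 := by simpa using hf 1 0 0
    induction hx using Submodule.span_induction with
    | mem x hx => exact hfG x hx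
    | zero => rw [h0, smul_zero]
    | add x y _ _ h h' =>
      have e := hf 1 x y
      rw [one_smul, one_smul] at e
      rw [e, smul_add, h, h', add_zero]
    | smul r x _ h =>
      have e := hf r x 0
      rw [add_zero, h0, add_zero] at e
      rw [e, smul_comm, h, smul_zero]
  refine hlin (fun a => R.asr U a b c) (fun r x y => R.asr_add_smul₁ U r x y b c) (fun a' ha' => ?_) a ha
  refine hlin (fun b => R.asr U a' b c) (fun r x y => R.asr_add_smul₂ U r a' x y c) (fun b' hb' => ?_) b hb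
  exact hlin (fun c => R.asr U a' b' c) (fun r x y => R.asr_add_smul₃ U r a' b' x y)
    (fun c' hc' => hG a' ha' b' hb' c' hc') c hc

theorem isOpen_assocAt : IsOpen {p : X | R.AssocAt p} := by
  rw [isOpen_iff_forall_mem_open]
  intro p hp
  obtain ⟨_, ⟨U, hU, rfl⟩, hpU, -⟩ :=
    X.isBasis_affineOpens.exists_subset_of_mem_open (Set.mem_univ p) isOpen_univ
  haveI := QCoh.finite_sections R.coh hU
  obtain ⟨s, hs⟩ := (Module.Finite.fg_top : (⊤ : Submodule Γ(X, U) Γ(R.M, U)).FG)
  have hf : ∀ t : s × s × s, ∃ f : Γ(X, U), p ∈ X.basicOpen f ∧ f • R.asr U t.1 t.2.1 t.2.2 = 0 := fun t =>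
    (QCoh.germ_eq_zero_iff R.coh.1 hU hpU _).1 (hp U hpU _ _ _)
  choose f hfp hf0 using hf
  let g := ∏ t, f t
  have hgp : p ∈ X.basicOpen g := by
    rw [QCoh.mem_basicOpen_iff_notMem hU hpU, (hU.primeIdealOf ⟨p, hpU⟩).isPrime.prod_mem_iff]
    rintro ⟨t, -, ht⟩
    exact (QCoh.mem_basicOpen_iff_notMem hU hpU _).1 (hfp t) ht
  refine ⟨X.basicOpen g, fun q hq => ?_, (X.basicOpen g).isOpen, hgp⟩
  have hgen : ∀ a b c : Γ(R.M, U), g • R.asr U a b c = 0 := fun a b c =>
    R.asr_eq_zero_of_gen g (G := (s : Set Γ(R.M, U))) (fun a ha b hb c hc => by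
      obtain ⟨d, hd⟩ := Finset.dvd_prod_of_mem f (Finset.mem_univ (⟨⟨a, ha⟩, ⟨b, hb⟩, ⟨c, hc⟩⟩ : s × s × s))
      show (∏ t, f t) • _ = _
      rw [hd, mul_comm, mul_smul, hf0 ⟨⟨a, ha⟩, ⟨b, hb⟩, ⟨c, hc⟩⟩, smul_zero])
      (hs ▸ trivial) (hs ▸ trivial) (hs ▸ trivial)
  have hqU : q ∈ U := X.basicOpen_le g hq
  intro U' hqU' a b c
  letI := QCoh.stalkModule R.M hqU
  haveI := QCoh.isLocalizedModule_germLin R.coh.1 hU hqU
  have hex : ∀ x : Γ(R.M, U'), ∃ (r : Γ(X, U)) (x₀ : Γ(R.M, U)) (W : X.Opens) (_ : q ∈ W) (h : W ≤ U) (h' : W ≤ U'),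
      q ∈ X.basicOpen r ∧ R.M.presheaf.map (homOfLE h).op (x₀) =
        (X.presheaf.map (homOfLE h).op r) • R.M.presheaf.map (homOfLE h').op x := by
    intro x
    obtain ⟨⟨x₀, r⟩, hx⟩ := IsLocalizedModule.surj (hU.primeIdealOf ⟨q, hqU⟩).asIdeal.primeCompl
      (QCoh.germLin R.M hqU) (R.M.presheaf.germ U' q hqU' x)
    have hx' : X.presheaf.germ U q hqU r.1 • R.M.presheaf.germ U' q hqU' x = R.M.presheaf.germ U q hqU x₀ := hx
    let V := U ⊓ U'
    have hqV : q ∈ V := ⟨hqU, hqU'⟩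
    have e : R.M.presheaf.germ U q hqU x₀ = R.M.presheaf.germ V q hqV
        ((X.presheaf.map (homOfLE (inf_le_left : V ≤ U)).op r.1) •
          R.M.presheaf.map (homOfLE (inf_le_right : V ≤ U')).op x) := by
      rw [QCoh.germ_smul', X.presheaf.germ_res_apply, R.M.presheaf.germ_res_apply, hx']
    obtain ⟨W, hqW, i, j, hW⟩ := R.M.presheaf.germ_eq q hqU hqV _ _ e
    refine ⟨r.1, x₀, W, hqW, i.le, j.le.trans inf_le_right, (QCoh.mem_basicOpen_iff_notMem hU hqU _).2 r.2, ?_⟩
    refine hW.trans ((Scheme.Modules.map_smul R.M j _ _).trans ?_)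
    exact congrArg₂ (fun (c : Γ(X, W)) (v : Γ(R.M, W)) => c • v)
      (congr($((X.presheaf.map_comp (homOfLE (inf_le_left : V ≤ U)).op j.op).symm) r.1))
      (congr($((R.M.presheaf.map_comp (homOfLE (inf_le_right : V ≤ U')).op j.op).symm) x))
  obtain ⟨r₁, a₀, W₁, hW₁, i₁, i₁', hr₁, ea⟩ := hex a
  obtain ⟨r₂, b₀, W₂, hW₂, i₂, i₂', hr₂, eb⟩ := hex b
  obtain ⟨r₃, c₀, W₃, hW₃, i₃, i₃', hr₃, ec⟩ := hex c
  let W := W₁ ⊓ W₂ ⊓ W₃
  have hqW : q ∈ W := ⟨⟨hW₁, hW₂⟩, hW₃⟩
  have hWU : W ≤ U := fun z hz => i₁ hz.1.1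
  have hWU' : W ≤ U' := fun z hz => i₁' hz.1.1
  have comb : ∀ {W' : X.Opens} (h : W ≤ W') (i : W' ≤ U) (i' : W' ≤ U') (r : Γ(X, U)) (x₀ : Γ(R.M, U)) (x : Γ(R.M, U')),
      R.M.presheaf.map (homOfLE i).op x₀ = X.presheaf.map (homOfLE i).op r • R.M.presheaf.map (homOfLE i').op x →
      R.M.presheaf.map (homOfLE hWU).op x₀ = X.presheaf.map (homOfLE hWU).op r • R.M.presheaf.map (homOfLE hWU').op x := by
    intro W' h i i' r x₀ x hx
    have e := congrArg (R.M.presheaf.map (homOfLE h).op) hx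
    refine (congr($(R.M.presheaf.map_comp (homOfLE i).op (homOfLE h).op) x₀)).trans (e.trans ?_)
    refine (Scheme.Modules.map_smul R.M (homOfLE h) _ _).trans ?_
    exact congrArg₂ (fun (c : Γ(X, W)) (v : Γ(R.M, W)) => c • v)
      (congr($((X.presheaf.map_comp (homOfLE i).op (homOfLE h).op).symm) r))
      (congr($((R.M.presheaf.map_comp (homOfLE i').op (homOfLE h).op).symm) x))
  have Ea := comb (inf_le_left.trans inf_le_left : W ≤ W₁) i₁ i₁' r₁ a₀ a ea
  have Eb := comb (inf_le_left.trans inf_le_right : W ≤ W₂) i₂ i₂' r₂ b₀ b eb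
  have Ec := comb (inf_le_right : W ≤ W₃) i₃ i₃' r₃ c₀ c ec
  have h1 : ∀ (t : Γ(X, W)) (x y z : Γ(R.M, W)), R.asr W (t • x) y z = t • R.asr W x y z := fun t x y z => by
    simp only [asr, smul_mul, smul_sub]
  have h2 : ∀ (t : Γ(X, W)) (x y z : Γ(R.M, W)), R.asr W x (t • y) z = t • R.asr W x y z := fun t x y z => by
    simp only [asr, smul_mul, mul_smul', smul_sub]
  have h3 : ∀ (t : Γ(X, W)) (x y z : Γ(R.M, W)), R.asr W x y (t • z) = t • R.asr W x y z := fun t x y z => by
    simp only [asr, mul_smul', smul_sub]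
  have key := congrArg (R.M.presheaf.map (homOfLE hWU).op) (hgen a₀ b₀ c₀)
  erw [Scheme.Modules.map_smul, asr_res, Ea, Eb, Ec, h1, h2, h3, ← asr_res _ hWU', map_zero] at key
  have key2 := congrArg (R.M.presheaf.germ W q hqW) key
  rw [QCoh.germ_smul', QCoh.germ_smul', QCoh.germ_smul', QCoh.germ_smul', map_zero] at key2
  rw [X.presheaf.germ_res_apply, X.presheaf.germ_res_apply, X.presheaf.germ_res_apply,
    X.presheaf.germ_res_apply, R.M.presheaf.germ_res_apply] at key2
  have kill : ∀ {r : Γ(X, U)} (_ : q ∈ X.basicOpen r) (v : R.M.presheaf.stalk q),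
      X.presheaf.germ U q hqU r • v = 0 → v = 0 := fun hr v hv =>
    ((X.mem_basicOpen _ q hqU).1 hr).smul_left_cancel.1 (hv.trans (smul_zero _).symm)
  exact kill hr₃ _ (kill hr₂ _ (kill hr₁ _ (kill hq _ key2)))

theorem mul_assoc' (U : X.Opens) (a b c : Γ(R.M, U)) : R.mul U (R.mul U a b) c = R.mul U a (R.mul U b c) := by
  refine sub_eq_zero.1 (TopCat.Presheaf.section_ext ⟨R.M.presheaf, R.M.isSheaf⟩ U _ _ fun q hq => ?_)
  refine Eq.trans ?_ (map_zero _).symm
  exact eq_univ_of_inFib (I := I) R.isOpen_assocAt (fun x hx => R.assocAt_inFib hx) q U hq a b c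

end Alg

end FSys

end Groth.Agent.Pi1Ext.FAlg
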