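import Groth.Agent.Pi1Ext.FAlg.EtAlg
import Groth.Agent.Pi1Ext.FAlg.Fibre
import Groth.Agent.AmpleVan.FibreVanish
import Groth.Agent.Pi1Ext.BranchSch

/-!
# A finite cover étale on all thickenings is étale
-/

set_option linter.style.haveILetI false
set_option linter.unusedSectionVars false
set_option backward.isDefEq.respectTransparency false
set_option backward.isDefEq.respectTransparency.types false

universe u

open CategoryTheory CategoryTheory.Limits AlgebraicGeometry TopologicalSpace Opposite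
open scoped TensorProduct

noncomputable section

namespace Groth.Agent.Pi1Ext.FAlg

open Groth.Agent Groth.Agent.AmpleVan

variable {A : Type u} [CommRing A] (I : Ideal A) {X W : Scheme.{u}} [X.Over (Spec (CommRingCat.of A))]
  (π : W ⟶ X)

theorem inFib_of_comp [W.Over (Spec (CommRingCat.of A))]
    (hπ : π ≫ (X ↘ Spec (CommRingCat.of A)) = W ↘ Spec (CommRingCat.of A)) {w : W} (h : InFib I w) :
    InFib I (π w) := by
  intro a ha hm
  refine h a ha ?_
  have e : Coh.toGlobal (W ↘ Spec (CommRingCat.of A)) a =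
      π.appTop (Coh.toGlobal (X ↘ Spec (CommRingCat.of A)) a) :=
    congr(($hπ).appTop ((Scheme.ΓSpecIso (CommRingCat.of A)).inv a)).symm
  rw [e, ← Scheme.preimage_basicOpen_top]
  exact hm

variable [IsAffineHom π]

/-- The truncated algebra of a cover étale on a thickening is étale. -/
theorem etale_trunc (n : ℕ) (h : Etale (pullback.snd π (CohB1.thickι (X ↘ Spec (CommRingCat.of A)) I n)))
    (U : X.affineOpens) :
    letI := (π.appLE U.1 (π ⁻¹ᵁ U.1) le_rfl).hom.toAlgebra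
    RingHom.Etale (algebraMap (Γ(X, U.1) ⧸ (I ^ (n + 1)).map (scal A U.1))
      (Γ(W, π ⁻¹ᵁ U.1) ⧸ ((I ^ (n + 1)).map (scal A U.1)).map (algebraMap Γ(X, U.1) Γ(W, π ⁻¹ᵁ U.1)))) := by
  letI := (π.appLE U.1 (π ⁻¹ᵁ U.1) le_rfl).hom.toAlgebra
  letI : W.Over (Spec (CommRingCat.of A)) := ⟨π ≫ (X ↘ Spec (CommRingCat.of A))⟩
  let j := CohB1.thickι (X ↘ Spec (CommRingCat.of A)) I n
  let i := pullback.fst π j
  let s := pullback.snd π j
  haveI : IsClosedImmersion j := FibreVanish.closed_thickι _ I n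
  haveI : IsClosedImmersion i := MorphismProperty.pullback_fst _ _ (FibreVanish.closed_thickι _ I n)
  have sqX : IsPullback j (CohB1.thickToBase (X ↘ Spec (CommRingCat.of A)) I n) (X ↘ Spec (CommRingCat.of A))
      (Spec.map (CommRingCat.ofHom (Ideal.Quotient.mk (I ^ (n + 1))))) :=
    IsPullback.of_hasPullback _ (CohB1.specQuot I n)
  have sqW : IsPullback i (s ≫ CohB1.thickToBase (X ↘ Spec (CommRingCat.of A)) I n) (W ↘ Spec (CommRingCat.of A))
      (Spec.map (CommRingCat.ofHom (Ideal.Quotient.mk (I ^ (n + 1))))) :=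
    (IsPullback.of_hasPullback π j).paste_vert sqX
  have hVa : IsAffineOpen (π ⁻¹ᵁ U.1) := U.2.preimage π
  have hle : i ⁻¹ᵁ (π ⁻¹ᵁ U.1) ≤ s ⁻¹ᵁ (j ⁻¹ᵁ U.1) := by
    rw [← Scheme.Hom.comp_preimage, ← Scheme.Hom.comp_preimage, pullback.condition]
  have hc : π.appLE U.1 (π ⁻¹ᵁ U.1) le_rfl ≫ i.app (π ⁻¹ᵁ U.1) = j.app U.1 ≫ s.appLE _ _ hle := by
    rw [Scheme.Hom.app_eq_appLE, Scheme.Hom.app_eq_appLE, Scheme.Hom.appLE_comp_appLE, Scheme.Hom.appLE_comp_appLE]
    congr 1
    exact pullback.condition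
  have hm : ((I ^ (n + 1)).map (scal A U.1)).map (algebraMap Γ(X, U.1) Γ(W, π ⁻¹ᵁ U.1)) =
      (I ^ (n + 1)).map (scal A (π ⁻¹ᵁ U.1)) := by
    rw [Ideal.map_map]
    congr 1
    refine RingHom.ext fun a => ?_
    show π.appLE U.1 (π ⁻¹ᵁ U.1) le_rfl (scal A U.1 a) = _
    rw [← Scheme.Hom.app_eq_appLE]
    exact resTop_app π (Coh.toGlobal (X ↘ Spec (CommRingCat.of A)) a) U.1
  refine quotientMap_of_surjective (fun f => RingHom.Etale f) RingHom.Etale.respectsIso _ (j.app U.1).hom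
    (i.app (π ⁻¹ᵁ U.1)).hom (s.appLE _ _ hle).hom (congrArg CommRingCat.Hom.hom hc)
    (j.app_surjective _ U.2) ?_ (i.app_surjective _ hVa) ?_ ?_
  · rw [← ker_ideal_of_isPullback sqX U]
    exact (FComplLib.ideal_ker j U).symm
  · rw [hm, ← ker_ideal_of_isPullback sqW ⟨_, hVa⟩]
    exact (FComplLib.ideal_ker i ⟨_, hVa⟩).symm
  · exact HasRingHomProperty.appLE @Etale s h ⟨_, U.2.preimage j⟩ ⟨_, hVa.preimage i⟩ hle

theorem flat_truncation (n : ℕ)
    (h : ∀ n, Etale (pullback.snd π (CohB1.thickι (X ↘ Spec (CommRingCat.of A)) I n))) (U : X.affineOpens) :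
    letI := (π.appLE U.1 (π ⁻¹ᵁ U.1) le_rfl).hom.toAlgebra
    Module.Flat (Γ(X, U.1) ⧸ (I.map (scal A U.1)) ^ n)
      ((Γ(X, U.1) ⧸ (I.map (scal A U.1)) ^ n) ⊗[Γ(X, U.1)] Γ(W, π ⁻¹ᵁ U.1)) := by
  letI := (π.appLE U.1 (π ⁻¹ᵁ U.1) le_rfl).hom.toAlgebra
  rw [← Ideal.map_pow]
  cases n with
  | zero =>
    haveI : Subsingleton (Γ(X, U.1) ⧸ (I ^ 0).map (scal A U.1)) := by
      rw [Ideal.Quotient.subsingleton_iff, pow_zero, Ideal.one_eq_top, Ideal.map_top]
    haveI := Module.subsingleton (Γ(X, U.1) ⧸ (I ^ 0).map (scal A U.1))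
      ((Γ(X, U.1) ⧸ (I ^ 0).map (scal A U.1)) ⊗[Γ(X, U.1)] Γ(W, π ⁻¹ᵁ U.1))
    infer_instance
  | succ n =>
    refine flat_truncation_tensor _ ?_
    have he := etale_trunc I π n (h n) U
    haveI := RingHom.etale_algebraMap.mp he
    exact RingHom.flat_algebraMap_iff.mpr inferInstance

variable [IsNoetherianRing A] [IsAdicComplete I A] [IsProper (X ↘ Spec (CommRingCat.of A))] [IsFinite π]

theorem exists_flat_nhd (h : ∀ n, Etale (pullback.snd π (CohB1.thickι (X ↘ Spec (CommRingCat.of A)) I n)))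
    {x : X} (hx : InFib I x) :
    ∃ U : X.affineOpens, x ∈ U.1 ∧
      (letI := (π.appLE U.1 (π ⁻¹ᵁ U.1) le_rfl).hom.toAlgebra; Module.Flat Γ(X, U.1) Γ(W, π ⁻¹ᵁ U.1)) := by
  haveI : IsLocallyNoetherian X := LocallyOfFiniteType.isLocallyNoetherian (X ↘ Spec (CommRingCat.of A))
  obtain ⟨_, ⟨U, hU, rfl⟩, hxU, -⟩ :=
    X.isBasis_affineOpens.exists_subset_of_mem_open (Set.mem_univ x) isOpen_univ
  let B := Γ(X, U)
  let C := Γ(W, π ⁻¹ᵁ U)
  letI iBC : Algebra B C := (π.appLE U (π ⁻¹ᵁ U) le_rfl).hom.toAlgebra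
  haveI : IsNoetherianRing B := IsLocallyNoetherian.component_noetherian ⟨U, hU⟩
  haveI : Module.Finite B C := by
    have hf := IsFinite.finite_app π U hU
    rw [Scheme.Hom.app_eq_appLE] at hf
    exact hf
  haveI : Module.FinitePresentation B C := Module.finitePresentation_of_finite _ _
  let p := hU.primeIdealOf ⟨x, hxU⟩
  have hp : I.map (scal A U) ≤ p.asIdeal := by
    refine Ideal.map_le_iff_le_comap.mpr fun a ha => ?_
    show scal A U a ∈ p.asIdeal
    by_contra hn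
    have := (QCoh.mem_basicOpen_iff_notMem hU hxU _).2 hn
    have e : X.basicOpen (scal A U a) = U ⊓ X.basicOpen (Coh.toGlobal (X ↘ Spec (CommRingCat.of A)) a) :=
      X.basicOpen_res (Coh.toGlobal (X ↘ Spec (CommRingCat.of A)) a) (homOfLE le_top).op
    rw [e] at this
    exact hx a ha this.2
  have hmem := mem_freeLocus_of_truncations C (I.map (scal A U))
    (fun n => flat_truncation I π n h ⟨U, hU⟩) p hp
  obtain ⟨_, ⟨f, rfl⟩, hpf, hf⟩ :=
    PrimeSpectrum.isTopologicalBasis_basic_opens.exists_subset_of_mem_open hmem Module.isOpen_freeLocus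
  have hxf : x ∈ X.basicOpen f := (QCoh.mem_basicOpen_iff_notMem hU hxU f).2 hpf
  refine ⟨⟨X.basicOpen f, hU.basicOpen f⟩, hxf, ?_⟩
  let B' := Γ(X, X.basicOpen f)
  let C' := Γ(W, π ⁻¹ᵁ X.basicOpen f)
  letI i1 : Algebra B B' := (X.presheaf.map (homOfLE (X.basicOpen_le f)).op).hom.toAlgebra
  letI i2 : Algebra C C' := (W.presheaf.map (homOfLE (π.preimage_mono (X.basicOpen_le f))).op).hom.toAlgebra
  letI i3 : Algebra B' C' := (π.appLE (X.basicOpen f) (π ⁻¹ᵁ X.basicOpen f) le_rfl).hom.toAlgebra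
  letI i4 : Algebra B C' := (π.appLE U (π ⁻¹ᵁ X.basicOpen f) (π.preimage_mono (X.basicOpen_le f))).hom.toAlgebra
  haveI : IsScalarTower B C C' := IsScalarTower.of_algebraMap_eq' (congrArg CommRingCat.Hom.hom
    (Scheme.Hom.appLE_map π le_rfl (homOfLE (π.preimage_mono (X.basicOpen_le f))).op).symm)
  haveI : IsScalarTower B B' C' := IsScalarTower.of_algebraMap_eq' (congrArg CommRingCat.Hom.hom
    (Scheme.Hom.map_appLE π le_rfl (homOfLE (X.basicOpen_le f)).op).symm)
  haveI : IsLocalization.Away f B' := hU.isLocalization_basicOpen f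
  haveI : IsLocalization.Away (algebraMap B C f) C' := by
    refine (hU.preimage π).isLocalization_of_eq_basicOpen _ (homOfLE (π.preimage_mono (X.basicOpen_le f))) ?_
    rw [Scheme.preimage_basicOpen π f, Scheme.Hom.app_eq_appLE]
    rfl
  exact flat_away_of_subset_freeLocus f hf B' C'

theorem exists_etale_nhd_of_thick (h : ∀ n, Etale (pullback.snd π (CohB1.thickι (X ↘ Spec (CommRingCat.of A)) I n)))
    {w : W} (hw : InFib I (π w)) : ∃ V : W.Opens, w ∈ V ∧ Etale (V.ι ≫ π) := by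
  haveI : IsLocallyNoetherian X := LocallyOfFiniteType.isLocallyNoetherian (X ↘ Spec (CommRingCat.of A))
  obtain ⟨⟨U, hU⟩, hxU, hflat⟩ := exists_flat_nhd I π h hw
  let V := π ⁻¹ᵁ U
  have hV : IsAffineOpen V := hU.preimage π
  refine BranchSch.exists_etale_of_isEtaleAt π hU hV le_rfl w hxU ?_
  let B := Γ(X, U)
  let C := Γ(W, V)
  letI iBC : Algebra B C := (π.appLE U V le_rfl).hom.toAlgebra
  haveI : IsNoetherianRing B := IsLocallyNoetherian.component_noetherian ⟨U, hU⟩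
  haveI : Module.Finite B C := by
    have hf := IsFinite.finite_app π U hU
    rw [Scheme.Hom.app_eq_appLE] at hf
    exact hf
  haveI : Algebra.FinitePresentation B C := Algebra.FinitePresentation.of_finiteType.mp inferInstance
  refine ⟨inferInstance, ?_⟩
  haveI : Module.Flat B C := hflat
  let J := I.map (scal A U)
  have he : RingHom.Etale (algebraMap (B ⧸ J) (C ⧸ J.map (algebraMap B C))) := by
    have h1 := etale_trunc I π 0 (h 0) ⟨U, hU⟩
    have e : (I ^ (0 + 1)).map (scal A U) = J := by rw [zero_add, pow_one]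
    revert h1
    generalize (I ^ (0 + 1)).map (scal A U) = K at e
    subst e
    exact id
  haveI : Algebra.Etale (B ⧸ J) (C ⧸ J.map (algebraMap B C)) := RingHom.etale_algebraMap.mp he
  refine Groth.Agent.Hensel.isEtaleAt_of_etale_quotient J _ (Ideal.map_le_iff_le_comap.mpr ?_)
  have hq : (hV.primeIdealOf ⟨w, hxU⟩).asIdeal.comap (algebraMap B C) = (hU.primeIdealOf ⟨π w, hxU⟩).asIdeal :=
    congr($(IsAffineOpen.comap_primeIdealOf_appLE U hU V hV le_rfl hxU).1)
  rw [hq]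
  refine Ideal.map_le_iff_le_comap.mpr fun a ha => ?_
  show scal A U a ∈ (hU.primeIdealOf ⟨π w, hxU⟩).asIdeal
  by_contra hn
  have := (QCoh.mem_basicOpen_iff_notMem hU hxU _).2 hn
  have e : X.basicOpen (scal A U a) = U ⊓ X.basicOpen (Coh.toGlobal (X ↘ Spec (CommRingCat.of A)) a) :=
    X.basicOpen_res (Coh.toGlobal (X ↘ Spec (CommRingCat.of A)) a) (homOfLE le_top).op
  rw [e] at this
  exact hw a ha this.2

/-- A finite morphism to a proper scheme over a complete ring which is étale on all thickenings is étale. -/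
theorem etale_of_thick (h : ∀ n, Etale (pullback.snd π (CohB1.thickι (X ↘ Spec (CommRingCat.of A)) I n))) :
    Etale π := by
  letI : W.Over (Spec (CommRingCat.of A)) := ⟨π ≫ (X ↘ Spec (CommRingCat.of A))⟩
  haveI : IsProper (W ↘ Spec (CommRingCat.of A)) :=
    (inferInstance : IsProper (π ≫ (X ↘ Spec (CommRingCat.of A))))
  let S : Set W := {w | ∃ V : W.Opens, w ∈ V ∧ Etale (V.ι ≫ π)}
  have hS : IsOpen S := by
    rw [isOpen_iff_forall_mem_open]
    rintro w ⟨V, hwV, hV⟩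
    exact ⟨V, fun z hz => ⟨V, hz, hV⟩, V.isOpen, hwV⟩
  have hall : ∀ w, w ∈ S := eq_univ_of_inFib (I := I) hS fun w hw =>
    exists_etale_nhd_of_thick I π h (inFib_of_comp I π rfl hw)
  choose V hwV hV using hall
  refine IsZariskiLocalAtSource.of_openCover
    (W.openCoverOfIsOpenCover V (TopologicalSpace.IsOpenCover.mk (eq_top_iff.2 fun w _ => Opens.mem_iSup.2 ⟨w, hwV w⟩))) fun w => ?_
  exact hV w

end Groth.Agent.Pi1Ext.FAlg
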