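import Groth.Agent.Pi1Ext.FAlg.Spec
import Groth.Agent.Pi1Ext.FAlg.EtGeo

/-!
# Finite étale covers of the closed fibre lift over a complete Noetherian base
-/

set_option linter.style.haveILetI false
set_option backward.isDefEq.respectTransparency false
set_option backward.isDefEq.respectTransparency.types false

universe u

open CategoryTheory CategoryTheory.Limits AlgebraicGeometry TopologicalSpace Opposite

noncomputable section

namespace Groth.Agent.Pi1Ext.FAlg

open Groth.Agent

theorem exists_lift_thick {A : Type u} [CommRing A] [IsNoetherianRing A] (I : Ideal A) [IsAdicComplete I A]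
    {X : Scheme.{u}} [X.Over (Spec (CommRingCat.of A))] [IsProper (X ↘ Spec (CommRingCat.of A))] {Y : Scheme.{u}}
    (a : Y ⟶ CohB1.thick (str X) I 0) (h1 : IsFinite a) (h2 : Etale a) :
    ∃ (W : Scheme.{u}) (π : W ⟶ X) (w : Y ⟶ W), IsFinite π ∧ Etale π ∧
      IsPullback w a π (CohB1.thickι (str X) I 0) := by
  haveI : IsLocallyNoetherian X := LocallyOfFiniteType.isLocallyNoetherian (X ↘ Spec (CommRingCat.of A))
  let S : FSys I X := FSys.ofZero a h1 h2
  obtain ⟨R⟩ := S.nonempty_alg
  refine ⟨R.B.spec, R.B.π, R.toW 0, inferInstance, ?_, R.isPullback_toW 0⟩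
  refine etale_of_thick I R.B.π fun n => ?_
  haveI : Etale (S.a n) := S.et n
  rw [← (R.isPullback_toW n).isoPullback_inv_snd]
  infer_instance

/-- Essential surjectivity of restriction to the closed fibre over a complete Noetherian base. -/
theorem essSurj_complete {A : Type u} [CommRing A] [IsNoetherianRing A] (I : Ideal A) [IsAdicComplete I A]
    {X : Scheme.{u}} (f : X ⟶ Spec (CommRingCat.of A)) [IsProper f] :
    (FEt.restrict (pullback.fst f (Spec.map (CommRingCat.ofHom (Ideal.Quotient.mk I))))).EssSurj := by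
  letI : X.Over (Spec (CommRingCat.of A)) := ⟨f⟩
  haveI : IsProper (X ↘ Spec (CommRingCat.of A)) := ‹IsProper f›
  let e : (A ⧸ I) ≃+* (A ⧸ I ^ (0 + 1)) := Ideal.quotEquivOfEq (by rw [zero_add, pow_one])
  let τ := Spec.map (CommRingCat.ofHom e.toRingHom)
  haveI : IsIso (CommRingCat.ofHom e.toRingHom) := e.toCommRingCatIso.isIso_hom
  have hτ : τ ≫ Spec.map (CommRingCat.ofHom (Ideal.Quotient.mk I)) = CohB1.specQuot I 0 := by
    rw [← Spec.map_comp]; rfl
  let κ : CohB1.thick (str X) I 0 ⟶ pullback f (Spec.map (CommRingCat.ofHom (Ideal.Quotient.mk I))) :=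
    pullback.map f (CohB1.specQuot I 0) f (Spec.map (CommRingCat.ofHom (Ideal.Quotient.mk I))) (𝟙 X) τ (𝟙 _)
      (by simp) (by simp [hτ])
  haveI : IsIso κ := by
    haveI : IsIso τ := by show IsIso (Spec.map _); infer_instance
    exact pullback.map_isIso _ _ _ _ _ _ _ _ _
  have hκ : κ ≫ pullback.fst f (Spec.map (CommRingCat.ofHom (Ideal.Quotient.mk I))) = CohB1.thickι (str X) I 0 :=
    (pullback.lift_fst _ _ _).trans (Category.comp_id _)
  refine ⟨fun V => ?_⟩
  have hVf : IsFinite V.hom := V.prop.1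
  have hVe : Etale V.hom := V.prop.2
  obtain ⟨W, π, w, h1, h2, sq⟩ := exists_lift_thick I (V.hom ≫ inv κ) inferInstance inferInstance
  let U : FEt.Cat X := MorphismProperty.Over.mk ⊤ π ⟨h1, h2⟩
  have sq' : IsPullback w V.hom π (pullback.fst f (Spec.map (CommRingCat.ofHom (Ideal.Quotient.mk I)))) :=
    sq.of_iso (Iso.refl _) (Iso.refl _) (asIso κ) (Iso.refl _) (by simp) (by simp) (by simp) (by simp [hκ])
  exact ⟨U, ⟨(MorphismProperty.Over.isoMk sq'.isoPullback (sq'.isoPullback_hom_snd)).symm⟩⟩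

end Groth.Agent.Pi1Ext.FAlg
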