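import Groth.Agent.Pi1Ext.FAlg.Stage
import Groth.Agent.Pi1Ext.FAlg.Complete
import Groth.Agent.PopescuLib.Approx
import Groth.Agent.PopescuLib.Noetherian
import Groth.Agent.S14050

/-!
# Lifting covers over a henselian G-ring pair
-/

set_option linter.style.haveILetI false
set_option backward.isDefEq.respectTransparency false
set_option backward.isDefEq.respectTransparency.types false

universe u

open CategoryTheory CategoryTheory.Limits AlgebraicGeometry Opposite

noncomputable section

namespace Groth.Agent.Pi1Ext.FAlg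

open Groth.Agent

namespace Excellent

variable (A B : Type u) [CommRing A] [CommRing B] [Algebra A B]

/-- Finitely generated subalgebras. -/
def rings : Finset B ⥤ CommRingCat.{u} where
  obj s := CommRingCat.of (Algebra.adjoin A (s : Set B))
  map {s t} h := CommRingCat.ofHom
    (Subalgebra.inclusion (Algebra.adjoin_mono (Finset.coe_subset.2 (leOfHom h)))).toRingHom

/-- The structure maps. -/
def φ : (Functor.const (Finset B)).obj (CommRingCat.of A) ⟶ rings A B where
  app s := CommRingCat.ofHom (algebraMap A (Algebra.adjoin A (s : Set B)))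
  naturality _ _ _ := rfl

/-- The cocone. -/
def cocone : Cocone (rings A B) where
  pt := CommRingCat.of B
  ι := { app := fun s => CommRingCat.ofHom (Algebra.adjoin A (s : Set B)).val.toRingHom }

/-- It is a colimit. -/
def isColimit : IsColimit (cocone A B) := by
  classical
  haveI : ReflectsColimit (rings A B) (forget CommRingCat.{u}) := reflectsColimit_of_reflectsIsomorphisms _ _
  refine isColimitOfReflects (forget CommRingCat.{u}) ?_
  refine Types.FilteredColimit.isColimitOf' _ _ (fun z => ?_) fun s x y h => ?_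
  · exact ⟨{z}, ⟨z, Algebra.subset_adjoin (Finset.mem_singleton_self z)⟩, rfl⟩
  · refine ⟨s, 𝟙 s, ?_⟩
    exact congrArg _ (Subtype.ext h)

theorem ha (s : Finset B) : (φ A B).app s ≫ (cocone A B).ι.app s = CommRingCat.ofHom (algebraMap A B) := rfl

end Excellent

/-- Approximate a map from a finitely generated subalgebra of the completion. -/
theorem exists_approx {A : Type u} [CommRing A] (I : Ideal A) [HenselianRing A I] (hG : CAlg.IsGRing A)
    (s : Finset (AdicCompletion I A)) :
    ∃ σ : Algebra.adjoin A (s : Set (AdicCompletion I A)) →ₐ[A] A,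
      ∀ x, Ideal.Quotient.mk (I ^ 1) (σ x) = AdicCompletion.evalₐ I 1 x.1 := by
  haveI : IsNoetherianRing A := hG.1
  haveI := PopescuLib.noetherian_completion I
  let n := s.card
  let x : Fin n → AdicCompletion I A := fun i => (s.equivFin.symm i).1
  let θ : MvPolynomial (Fin n) A →ₐ[A] AdicCompletion I A := MvPolynomial.aeval x
  have hrange : θ.range = Algebra.adjoin A (s : Set (AdicCompletion I A)) := by
    rw [← Algebra.adjoin_range_eq_range_aeval]
    congr 1
    ext z
    refine ⟨?_, fun hz => ⟨s.equivFin ⟨z, hz⟩, by simp [x]⟩⟩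
    rintro ⟨i, rfl⟩
    exact (s.equivFin.symm i).2
  obtain ⟨m, r, hr⟩ := Submodule.fg_iff_exists_fin_generating_family.1
    (IsNoetherian.noetherian (RingHom.ker θ.toRingHom))
  obtain ⟨b, hb, hxb⟩ := PopescuLib.approx I
    (PopescuLib.isRegularHom_adicCompletion A (fun m _ => hG.2 m) I) r x (fun j => by
      have : r j ∈ RingHom.ker θ.toRingHom := hr ▸ Submodule.subset_span ⟨j, rfl⟩
      exact this) 1
  let b₀ : MvPolynomial (Fin n) A →ₐ[A] A := MvPolynomial.aeval b
  have hker : ∀ p, θ p = 0 → b₀ p = 0 := fun p hp => by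
    refine (Ideal.span_le.2 ?_ : Ideal.span (Set.range r) ≤ RingHom.ker b₀) ((SetLike.ext_iff.1 hr p).2 hp)
    rintro _ ⟨i, rfl⟩
    show MvPolynomial.aeval b (r i) = 0
    exact hb i
  let θ' : MvPolynomial (Fin n) A →ₐ[A] θ.range := θ.rangeRestrict
  let σ₀ : θ.range →ₐ[A] A := AlgHom.liftOfSurjective θ' θ.rangeRestrict_surjective b₀ (fun p hp => by
    exact hker p (congrArg Subtype.val hp))
  let σ := σ₀.comp (Subalgebra.equivOfEq _ _ hrange.symm).toAlgHom
  refine ⟨σ, fun y => ?_⟩
  obtain ⟨p, hp⟩ := θ.rangeRestrict_surjective (Subalgebra.equivOfEq _ _ hrange.symm y)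
  have hy : y.1 = θ p := (congrArg Subtype.val hp).symm
  have hσ : σ y = b₀ p := by
    show σ₀ (Subalgebra.equivOfEq _ _ hrange.symm y) = _
    rw [← hp]
    exact AlgHom.liftOfSurjective_apply θ' θ.rangeRestrict_surjective _ _ p
  rw [hσ, hy]
  exact congr($(MvPolynomial.algHom_ext (f := (Ideal.Quotient.mkₐ A (I ^ 1)).comp b₀)
    (g := (AdicCompletion.evalₐ I 1).comp θ) fun j => by simp [b₀, θ, hxb j]) p)

/-- Restriction along the identity. -/
def restrictIdIso {Z : Scheme.{u}} (V : FEt.Cat Z) : (FEt.restrict (𝟙 Z)).obj V ≅ V :=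
  MorphismProperty.Over.isoMk (asIso (pullback.fst V.hom (𝟙 Z)))
    (pullback.condition.trans (Category.comp_id _))

/-- Essential surjectivity over a henselian Noetherian G-ring pair. -/
theorem essSurj_gRing {A : Type u} [CommRing A] (I : Ideal A) [HenselianRing A I] (hG : CAlg.IsGRing A)
    {X : Scheme.{u}} (f : X ⟶ Spec (CommRingCat.of A)) [IsProper f] :
    (FEt.restrict (pullback.fst f (Spec.map (CommRingCat.ofHom (Ideal.Quotient.mk I))))).EssSurj := by
  haveI : IsNoetherianRing A := hG.1
  refine ⟨fun V => ?_⟩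
  let Ah := AdicCompletion I A
  haveI : IsNoetherianRing Ah := PopescuLib.noetherian_completion I
  let I' := I.map (algebraMap A Ah)
  haveI : IsAdicComplete I' Ah := AdicCompletion.isAdicComplete_self I (IsNoetherian.noetherian I)
  let e1 : (A ⧸ I ^ 1) →ₐ[A] A ⧸ I := Ideal.Quotient.factorₐ A (le_of_eq (pow_one I))
  let π : Ah →ₐ[A] A ⧸ I := e1.comp (AdicCompletion.evalₐ I 1)
  have hπ : I' ≤ RingHom.ker π.toRingHom := by
    refine Ideal.map_le_iff_le_comap.2 fun z hz => ?_
    show π (algebraMap A Ah z) = 0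
    rw [AlgHom.commutes]
    exact Ideal.Quotient.eq_zero_iff_mem.2 hz
  let π' : Ah ⧸ I' →+* A ⧸ I := Ideal.Quotient.lift I' π.toRingHom fun z hz => hπ hz
  have hπ'a : π'.comp ((Ideal.Quotient.mk I').comp (algebraMap A Ah)) = Ideal.Quotient.mk I :=
    RingHom.ext fun z => π.commutes z
  let α := Spec.map (CommRingCat.ofHom (algebraMap A Ah))
  let X' := pullback f α
  let f' : X' ⟶ Spec (CommRingCat.of Ah) := pullback.snd f α
  haveI : IsProper f' := MorphismProperty.pullback_snd f α inferInstance
  haveI := essSurj_complete I' f'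
  let i := pullback.fst f (Spec.map (CommRingCat.ofHom (Ideal.Quotient.mk I)))
  let i' := pullback.fst f' (Spec.map (CommRingCat.ofHom (Ideal.Quotient.mk I')))
  let q := pullback.snd f (Spec.map (CommRingCat.ofHom (Ideal.Quotient.mk I)))
  -- the closed fibre of the completion maps to the closed fibre
  let ρ : A ⧸ I →+* Ah ⧸ I' := Ideal.quotientMap I' (algebraMap A Ah) Ideal.le_comap_map
  have hρ : π'.comp ρ = RingHom.id _ := Ideal.Quotient.ringHom_ext (RingHom.ext fun z => π.commutes z)
  let down : pullback f' (Spec.map (CommRingCat.ofHom (Ideal.Quotient.mk I'))) ⟶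
      pullback f (Spec.map (CommRingCat.ofHom (Ideal.Quotient.mk I))) :=
    pullback.lift (i' ≫ pullback.fst f α) (pullback.snd _ _ ≫ Spec.map (CommRingCat.ofHom ρ)) (by
      rw [Category.assoc, pullback.condition, reassoc_of% (pullback.condition (f := f')
        (g := Spec.map (CommRingCat.ofHom (Ideal.Quotient.mk I')))), Category.assoc, ← Spec.map_comp, ← Spec.map_comp]
      rfl)
  -- lift to the completion and descend to a stage
  let W := (FEt.restrict i').objPreimage ((FEt.restrict down).obj V)
  haveI : CompactSpace X := QuasiCompact.compactSpace_of_compactSpace f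
  haveI : QuasiSeparatedSpace X := quasiSeparatedSpace_of_quasiSeparated f
  obtain ⟨s, Ws, p, hp1, hp2, ⟨es⟩⟩ := Stage.exists_stage (Excellent.rings A Ah) (Excellent.φ A Ah)
    (Excellent.cocone A Ah) f (CommRingCat.ofHom (algebraMap A Ah)) (Excellent.ha A Ah) (Excellent.isColimit A Ah) W
  obtain ⟨σ, hσ⟩ := exists_approx I hG s
  let b : X ⟶ pullback f (Spec.map ((Excellent.φ A Ah).app s)) :=
    pullback.lift (𝟙 X) (f ≫ Spec.map (CommRingCat.ofHom σ.toRingHom)) (by
      rw [Category.id_comp, Category.assoc, ← Spec.map_comp]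
      have : (Excellent.φ A Ah).app s ≫ CommRingCat.ofHom σ.toRingHom = 𝟙 _ :=
        CommRingCat.hom_ext (RingHom.ext σ.commutes)
      exact (Category.comp_id f).symm.trans (congrArg (f ≫ ·) ((congrArg Spec.map this).trans (Spec.map_id _)).symm))
  -- the section of the closed fibre
  let up : pullback f (Spec.map (CommRingCat.ofHom (Ideal.Quotient.mk I))) ⟶
      pullback f' (Spec.map (CommRingCat.ofHom (Ideal.Quotient.mk I'))) :=
    pullback.lift (pullback.lift i (q ≫ Spec.map (CommRingCat.ofHom (π'.comp (Ideal.Quotient.mk I')))) (by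
        rw [Category.assoc, pullback.condition, ← Spec.map_comp]
        exact congrArg (fun m => q ≫ Spec.map (CommRingCat.ofHom m)) hπ'a.symm))
      (q ≫ Spec.map (CommRingCat.ofHom π')) (by
        rw [pullback.lift_snd, Category.assoc, ← Spec.map_comp]
        rfl)
  have hud : up ≫ down = 𝟙 _ := by
    refine pullback.hom_ext ?_ ?_
    · simp [up, down, i', i]
    · simp only [up, down, Category.assoc, pullback.lift_snd, pullback.lift_snd_assoc, Category.id_comp]
      rw [← Spec.map_comp, show CommRingCat.ofHom ρ ≫ CommRingCat.ofHom π' = 𝟙 _ from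
        CommRingCat.hom_ext hρ, Spec.map_id, Category.comp_id]
  have hup1 : up ≫ i' ≫ pullback.fst f α = i := by
    rw [← Category.assoc, pullback.lift_fst]
    exact pullback.lift_fst _ _ _
  have hup2 : up ≫ i' ≫ pullback.snd f α = q ≫ Spec.map (CommRingCat.ofHom (π'.comp (Ideal.Quotient.mk I'))) := by
    rw [← Category.assoc, pullback.lift_fst]
    exact pullback.lift_snd _ _ _
  have hw : i ≫ b = up ≫ i' ≫ p := by
    refine pullback.hom_ext ?_ ?_
    · simp only [Category.assoc, hp1]
      rw [show b ≫ pullback.fst f _ = 𝟙 X from pullback.lift_fst _ _ _, Category.comp_id]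
      exact hup1.symm
    · rw [Category.assoc, Category.assoc, Category.assoc, pullback.lift_snd, hp2, ← Category.assoc i,
        pullback.condition, Category.assoc, ← Spec.map_comp]
      have hcomp : CommRingCat.ofHom σ.toRingHom ≫ CommRingCat.ofHom (Ideal.Quotient.mk I) =
          (Excellent.cocone A Ah).ι.app s ≫ CommRingCat.ofHom (π'.comp (Ideal.Quotient.mk I')) := by
        refine CommRingCat.hom_ext (RingHom.ext fun x => ?_)
        exact (congrArg e1 (hσ x))
      rw [hcomp, Spec.map_comp, reassoc_of% hup2]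
  refine ⟨(FEt.restrict b).obj Ws, ⟨?_⟩⟩
  exact ((MorphismProperty.Over.pullbackComp (P := FEt.prop) (Q := ⊤) i b).app Ws).symm ≪≫
    eqToIso (congrArg (fun m => (FEt.restrict m).obj Ws) hw) ≪≫
    (MorphismProperty.Over.pullbackComp (P := FEt.prop) (Q := ⊤) up (i' ≫ p)).app Ws ≪≫
    (FEt.restrict up).mapIso ((MorphismProperty.Over.pullbackComp (P := FEt.prop) (Q := ⊤) i' p).app Ws ≪≫
      (FEt.restrict i').mapIso es ≪≫ (FEt.restrict i').objObjPreimageIso _) ≪≫
    ((MorphismProperty.Over.pullbackComp (P := FEt.prop) (Q := ⊤) up down).app V).symm ≪≫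
    eqToIso (congrArg (fun m => (FEt.restrict m).obj V) hud) ≪≫ restrictIdIso V

end Groth.Agent.Pi1Ext.FAlg
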