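import Groth.Agent.Pi1Ext.FAlg.Sys
import Groth.Agent.Algz7.Completion
import Groth.Agent.S0060
import Groth.Agent.S0004

/-!
# The coherent module algebraising the direct images of a system of covers
-/

set_option linter.style.haveILetI false
set_option backward.isDefEq.respectTransparency false
set_option backward.isDefEq.respectTransparency.types false

universe u

open CategoryTheory CategoryTheory.Limits AlgebraicGeometry TopologicalSpace Opposite

noncomputable section

namespace Groth.Agent.Pi1Ext.FAlg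

open Groth.Agent Groth.Agent.AmpleVan

variable {A : Type u} [CommRing A] {I : Ideal A} {X : Scheme.{u}} [X.Over (Spec (CommRingCat.of A))]

namespace FSys

variable (S : FSys I X)

/-- The direct image of the functions of a level. -/
def G (n : ℕ) : X.Modules := (Scheme.Modules.pushforward (S.b n)).obj (Coh.structureModule (S.Y n))

theorem preimage_b (n : ℕ) (U : X.Opens) : S.t n ⁻¹ᵁ (S.b (n + 1) ⁻¹ᵁ U) = S.b n ⁻¹ᵁ U := by
  rw [← Scheme.Hom.comp_preimage, S.t_b]

/-- Restriction of functions to the previous level. -/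
def resY (n : ℕ) (U : X.Opens) : Γ(S.Y (n + 1), S.b (n + 1) ⁻¹ᵁ U) ⟶ Γ(S.Y n, S.b n ⁻¹ᵁ U) :=
  (S.t n).appLE (S.b (n + 1) ⁻¹ᵁ U) (S.b n ⁻¹ᵁ U) (S.preimage_b n U).ge

theorem resY_natural (n : ℕ) {U V : X.Opens} (h : V ≤ U) :
    (S.Y (n + 1)).presheaf.map (homOfLE ((S.b (n + 1)).preimage_mono h)).op ≫ S.resY n V =
      S.resY n U ≫ (S.Y n).presheaf.map (homOfLE ((S.b n).preimage_mono h)).op := by
  rw [resY, resY, Scheme.Hom.map_appLE, Scheme.Hom.appLE_map]

theorem resY_b (n : ℕ) (U : X.Opens) : (S.b (n + 1)).app U ≫ S.resY n U = (S.b n).app U := by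
  rw [resY, Scheme.Hom.app_eq_appLE, Scheme.Hom.appLE_comp_appLE, Scheme.Hom.app_eq_appLE]
  simp only [S.t_b]

/-- The transition of the direct images. -/
def step (n : ℕ) : S.G (n + 1) ⟶ S.G n :=
  ⟨PresheafOfModules.homMk
    { app := fun U => AddCommGrpCat.ofHom (S.resY n U.unop).hom.toAddMonoidHom
      naturality := fun U V i => by
        ext z
        exact congr($(S.resY_natural n i.unop.le) z) }
    fun U r m => by
      change (S.resY n U.unop) ((S.b (n + 1)).app U.unop r *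
          (show Γ(S.Y (n + 1), S.b (n + 1) ⁻¹ᵁ U.unop) from m)) = (S.b n).app U.unop r *
          (S.resY n U.unop) (show Γ(S.Y (n + 1), S.b (n + 1) ⁻¹ᵁ U.unop) from m)
      rw [map_mul]
      congr 1
      exact congr($(S.resY_b n U.unop) r)⟩

theorem step_app (n : ℕ) (U : X.Opens) (z : Γ(S.Y (n + 1), S.b (n + 1) ⁻¹ᵁ U)) :
    (S.step n).app U z = S.resY n U z := rfl

theorem killedBy_G (n : ℕ) : Formal.KilledBy (I ^ (n + 1)) (S.G n) := fun a ha => by
  rw [G, ← push_map_smulMod (S.b n) (S.b_over n), AdicSys.smulMod_eq_zero S.adic n _ ha]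
  exact Functor.map_zero _ _ _

variable [IsLocallyNoetherian X]

theorem isCoh_G (n : ℕ) : Coh.IsCoh (S.G n) :=
  haveI := S.isLocallyNoetherian_Y n
  QCoh.isCoh_pushforward_finite (S.b n) QCoh.isCoh_structureModule'

omit [IsLocallyNoetherian X] in
theorem surjective_resY (n : ℕ) (U : X.affineOpens) : Function.Surjective (S.resY n U.1) := by
  haveI := S.isClosedImmersion_t n
  have hW : IsAffineOpen (S.b (n + 1) ⁻¹ᵁ U.1) := U.2.preimage _
  have h : Function.Surjective ((S.t n).app (S.b (n + 1) ⁻¹ᵁ U.1)) :=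
    (S.t n).app_surjective _ hW
  intro z
  obtain ⟨y, hy⟩ := h (((S.Y n).presheaf.map (eqToHom (S.preimage_b n U.1)).op).hom z)
  refine ⟨y, ?_⟩
  rw [resY, Scheme.Hom.appLE, CommRingCat.comp_apply, hy, ← CommRingCat.comp_apply, ← Functor.map_comp]
  rw [Subsingleton.elim (_ ≫ _) (𝟙 _), CategoryTheory.Functor.map_id]
  rfl

omit [IsLocallyNoetherian X] in
theorem resY_eq_zero (n : ℕ) (U : X.affineOpens) {z : Γ(S.Y (n + 1), S.b (n + 1) ⁻¹ᵁ U.1)}
    (hz : S.resY n U.1 z = 0) :
    z ∈ (I ^ (n + 1)).map (scal A (S.b (n + 1) ⁻¹ᵁ U.1)) := by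
  haveI := S.isClosedImmersion_t n
  have sq : IsPullback (S.t n) (S.a n ≫ CohB1.thickToBase (str X) I n) (S.Y (n + 1) ↘ Spec (CommRingCat.of A))
      (Spec.map (CommRingCat.ofHom (Ideal.Quotient.mk (I ^ (n + 1))))) := S.adic.square_i n
  rw [← ker_ideal_of_isPullback sq ⟨_, U.2.preimage (S.b (n + 1))⟩,
    FComplLib.ideal_ker (S.t n) ⟨_, U.2.preimage (S.b (n + 1))⟩, RingHom.mem_ker]
  have hinj : Function.Injective ((S.Y n).presheaf.map (homOfLE (S.preimage_b n U.1).ge).op) := by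
    haveI : IsIso (homOfLE (S.preimage_b n U.1).ge) := ⟨homOfLE (S.preimage_b n U.1).le, rfl, rfl⟩
    exact (ConcreteCategory.bijective_of_isIso _).1
  refine hinj ?_
  rw [map_zero]
  exact hz

omit [IsLocallyNoetherian X] in
theorem app_eq_zero_of_mem {J : Ideal A} {n : ℕ} {N : X.Modules} (φ : S.G n ⟶ N)
    (hφ : ∀ a ∈ J, Formal.smulMod A (S.G n) a ≫ φ = 0) (U : X.Opens) {z : Γ(S.Y n, S.b n ⁻¹ᵁ U)}
    (hz : z ∈ J.map (scal A (S.b n ⁻¹ᵁ U))) : φ.app U z = 0 := by
  revert hz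
  suffices h : ∀ w ∈ J.map (scal A (S.b n ⁻¹ᵁ U)), ∀ v : Γ(S.Y n, S.b n ⁻¹ᵁ U), φ.app U (w * v) = 0 by
    intro hz; simpa using h z hz 1
  intro w hw
  induction hw using Submodule.span_induction with
  | mem w hw =>
    obtain ⟨a, ha, rfl⟩ := hw
    intro v
    refine Eq.trans (congrArg (φ.app U) ?_) congr(($(hφ a ha)).app U v)
    have e : (Formal.smulMod A (S.G n) a).app U v =
        ((Scheme.Modules.pushforward (S.b n)).map (Formal.smulMod A (Coh.structureModule (S.Y n)) a)).app U v := by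
      rw [push_map_smulMod (S.b n) (S.b_over n)]; rfl
    exact e.symm
  | zero => intro v; exact (congrArg (φ.app U) (zero_mul v)).trans (map_zero _)
  | add w w' _ _ h h' =>
    intro v
    refine (congrArg (φ.app U) (add_mul w w' v)).trans ?_
    exact (map_add (φ.app U).hom _ _).trans (by rw [h v, h' v, add_zero])
  | smul r w _ h =>
    intro v
    refine (congrArg (φ.app U) ?_).trans (h (r * v))
    show r * w * v = w * (r * v)
    ring

theorem isIso_desc_step (n : ℕ) :
    ∃ h : Formal.smulFamily (I ^ (n + 1)) (S.G (n + 1)) ≫ S.step n = 0, IsIso (cokernel.desc _ _ h) := by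
  have h0 := Algz7.smulFamily_comp_eq_zero (S.killedBy_G n) (S.step n)
  refine ⟨h0, QCoh.isIso_of_isBasis _ X.isBasis_affineOpens fun U hU => ?_⟩
  have hC : Coh.IsQCoh (cokernel (Formal.smulFamily (I ^ (n + 1)) (S.G (n + 1)))) :=
    QCoh.isQCoh_cokernel (QCoh.isQCoh_colimit _ fun _ => (S.isCoh_G (n + 1)).1) (S.isCoh_G (n + 1)).1 _
  have hπ : Function.Surjective ((cokernel.π (Formal.smulFamily (I ^ (n + 1)) (S.G (n + 1)))).app U) :=
    QCoh.app_surjective_of_epi (S.isCoh_G (n + 1)).1 hC _ hU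
  have hd : ∀ m, (cokernel.desc _ _ h0).app U ((cokernel.π (Formal.smulFamily (I ^ (n + 1)) (S.G (n + 1)))).app U m) =
      (S.step n).app U m :=
    fun m => congr(($(cokernel.π_desc _ _ h0)).app U m)
  refine ⟨(injective_iff_map_eq_zero _).2 fun y hy => ?_, fun z => ?_⟩
  · obtain ⟨m, rfl⟩ := hπ y
    rw [hd] at hy
    refine S.app_eq_zero_of_mem _ (fun a ha => ?_) U (S.resY_eq_zero n ⟨U, hU⟩ hy)
    refine Eq.trans ?_ (comp_zero (f := Sigma.ι (fun _ : (I ^ (n + 1) : Ideal A) => S.G (n + 1)) ⟨a, ha⟩))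
    rw [← cokernel.condition (Formal.smulFamily (I ^ (n + 1)) (S.G (n + 1))), ← Category.assoc]
    exact congrArg (· ≫ _)
      (Sigma.ι_desc (fun b : (I ^ (n + 1) : Ideal A) => Formal.smulMod A (S.G (n + 1)) (b : A)) ⟨a, ha⟩).symm
  · obtain ⟨m, hm⟩ := S.surjective_resY n ⟨U, hU⟩ z
    exact ⟨_, (hd m).trans hm⟩

/-- The formal module of the system. -/
def GF : ℕᵒᵖ ⥤ X.Modules := Functor.ofOpSequence S.step

theorem isCohFormal_GF : Formal.IsCohFormal I S.GF := by
  refine ⟨S.isCoh_G, S.killedBy_G, fun n => ?_⟩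
  have e : S.GF.map (homOfLE (Nat.le_succ n)).op = S.step n := Functor.ofOpSequence_map_homOfLE_succ _ n
  rw [e]
  exact S.isIso_desc_step n

/-- An algebraisation of the formal module. -/
structure Alg where
  /-- the module -/
  M : X.Modules
  coh : Coh.IsCoh M
  /-- the identification -/
  θ : Formal.completion I M ≅ S.GF

theorem nonempty_alg [IsNoetherianRing A] [IsAdicComplete I A] [IsProper (X ↘ Spec (CommRingCat.of A))] : Nonempty S.Alg :=
  have ⟨M, hM, ⟨θ⟩⟩ := (S0004.result A I X).2 S.GF S.isCohFormal_GF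
  ⟨⟨M, hM, θ⟩⟩

namespace Alg

variable {S} (R : S.Alg)

/-- The projection to a level. -/
def r (n : ℕ) : R.M ⟶ S.G n := Formal.modPowπ I (n + 1) R.M ≫ R.θ.hom.app (op n)

theorem r_step (n : ℕ) : R.r (n + 1) ≫ S.step n = R.r n := by
  have e : S.GF.map (homOfLE (Nat.le_succ n)).op = S.step n := Functor.ofOpSequence_map_homOfLE_succ _ n
  have h := R.θ.hom.naturality (homOfLE (Nat.le_succ n)).op
  rw [Algz7.completion_map_succ, e] at h
  have h' : Formal.modPowTrans I (n + 1) R.M ≫ R.θ.hom.app (op n) = R.θ.hom.app (op (n + 1)) ≫ S.step n := h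
  show (Formal.modPowπ I (n + 1 + 1) R.M ≫ R.θ.hom.app (op (n + 1))) ≫ S.step n = _
  rw [Category.assoc, ← h', ← Category.assoc, Formal.modPowπ_trans]
  rfl

theorem r_res (n : ℕ) {U V : X.Opens} (h : V ≤ U) (x : Γ(R.M, U)) :
    (R.r n).app V (R.M.presheaf.map (homOfLE h).op x) =
      (S.Y n).presheaf.map (homOfLE ((S.b n).preimage_mono h)).op ((R.r n).app U x) :=
  QCoh.map_app_comm (R.r n) (homOfLE h) x

omit [IsLocallyNoetherian X] in
theorem app_smulMod_mem {J : Ideal A} (M : X.Modules) (U : X.Opens) (a : A) (ha : a ∈ J) (m : Γ(M, U)) :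
    (Formal.smulMod A M a).app U m ∈ (J.map (scal A U)) • (⊤ : Submodule Γ(X, U) Γ(M, U)) :=
  Submodule.smul_mem_smul (Ideal.mem_map_of_mem _ ha) trivial

theorem surjective_r (n : ℕ) {U : X.Opens} (hU : IsAffineOpen U) : Function.Surjective ((R.r n).app U) := by
  haveI : Epi (Formal.modPowπ I (n + 1) R.M) := coequalizer.π_epi
  haveI : Epi (R.r n) := epi_comp _ _
  exact QCoh.app_surjective_of_epi R.coh.1 (S.isCoh_G n).1 _ hU

theorem r_eq_zero_iff (n : ℕ) {U : X.Opens} (hU : IsAffineOpen U) (x : Γ(R.M, U)) :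
    (R.r n).app U x = 0 ↔ x ∈ (I ^ (n + 1)).map (scal A U) • (⊤ : Submodule Γ(X, U) Γ(R.M, U)) := by
  have hinj : Function.Injective ((R.θ.hom.app (op n)).app U) :=
    (ConcreteCategory.bijective_of_isIso _).1
  have sq : IsPullback (CohB1.thickι (str X) I n) (CohB1.thickToBase (str X) I n) (str X)
      (Spec.map (CommRingCat.ofHom (Ideal.Quotient.mk (I ^ (n + 1))))) :=
    IsPullback.of_hasPullback (str X) (CohB1.specQuot I n)
  obtain ⟨h0, hiso⟩ := unit_desc_iso sq R.coh.1
  have hx : (R.r n).app U x = (R.θ.hom.app (op n)).app U ((Formal.modPowπ I (n + 1) R.M).app U x) := rfl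
  rw [hx, map_eq_zero_iff _ hinj, ← ker_ideal_of_isPullback sq ⟨U, hU⟩,
    ← (QCoh.unit_app_closed (CohB1.thickι (str X) I n) R.coh.1 hU).2 x]
  have hd : (cokernel.desc _ _ h0).app U ((Formal.modPowπ I (n + 1) R.M).app U x) =
      ((Scheme.Modules.pullbackPushforwardAdjunction (CohB1.thickι (str X) I n)).unit.app R.M).app U x :=
    congr(($(cokernel.π_desc _ _ h0)).app U x)
  rw [← hd]
  haveI := hiso
  exact (map_eq_zero_iff _ (ConcreteCategory.bijective_of_isIso
    ((cokernel.desc _ _ h0).app U)).1).symm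

variable [IsNoetherianRing A] [IsAdicComplete I A] [IsProper (X ↘ Spec (CommRingCat.of A))]

/-- Maps into the algebraisation are compatible systems. -/
theorem exists_lift {N : X.Modules} (hN : Coh.IsCoh N) (ν : ∀ n, N ⟶ S.G n) (hν : ∀ n, ν (n + 1) ≫ S.step n = ν n) :
    ∃ φ : N ⟶ R.M, ∀ n, φ ≫ R.r n = ν n := by
  let τ : ∀ n, Formal.modPow I (n + 1) N ⟶ (Formal.completion I R.M).obj (op n) := fun n =>
    cokernel.desc _ (ν n) (Algz7.smulFamily_comp_eq_zero (S.killedBy_G n) (ν n)) ≫ R.θ.inv.app (op n)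
  have hτ : ∀ n, Formal.modPowπ I (n + 1) N ≫ τ n = ν n ≫ R.θ.inv.app (op n) := fun n => by
    show Formal.modPowπ I (n + 1) N ≫ (_ ≫ _) = _
    rw [← Category.assoc]
    exact congrArg (· ≫ _) (cokernel.π_desc _ _ _)
  let T : Formal.completion I N ⟶ Formal.completion I R.M := NatTrans.ofOpSequence τ fun n => by
    haveI : Epi (Formal.modPowπ I (n + 1 + 1) N) := coequalizer.π_epi
    rw [Algz7.completion_map_succ, Algz7.completion_map_succ]
    refine (cancel_epi (Formal.modPowπ I (n + 1 + 1) N)).1 ?_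
    rw [← Category.assoc, Formal.modPowπ_trans, hτ, ← Category.assoc, hτ, Category.assoc]
    have e : S.GF.map (homOfLE (Nat.le_succ n)).op = S.step n := Functor.ofOpSequence_map_homOfLE_succ _ n
    have h := R.θ.inv.naturality (homOfLE (Nat.le_succ n)).op
    rw [Algz7.completion_map_succ, e] at h
    refine Eq.trans ?_ (congrArg (ν (n + 1) ≫ ·) h)
    rw [← Category.assoc]
    exact congrArg (· ≫ _) (hν n).symm
  obtain ⟨φ, hφ, -⟩ := S0060.result A I X N R.M hN R.coh T
  refine ⟨φ, fun n => ?_⟩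
  show φ ≫ Formal.modPowπ I (n + 1) R.M ≫ R.θ.hom.app (op n) = ν n
  rw [← Category.assoc, ← hφ n]
  show (Formal.modPowπ I (n + 1) N ≫ τ n) ≫ _ = _
  rw [hτ, Category.assoc]
  exact (congrArg (ν n ≫ ·) (R.θ.inv_hom_id_app (op n))).trans (Category.comp_id _)

/-- Maps into the algebraisation are determined by the levels. -/
theorem hom_ext {N : X.Modules} (hN : Coh.IsCoh N) {φ φ' : N ⟶ R.M} (h : ∀ n, φ ≫ R.r n = φ' ≫ R.r n) : φ = φ' := by
  let τ : ∀ n, Formal.modPow I (n + 1) N ⟶ Formal.modPow I (n + 1) R.M := fun n =>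
    cokernel.desc _ (φ ≫ Formal.modPowπ I (n + 1) R.M)
      (Algz7.smulFamily_comp_eq_zero (Algz7.killedBy_of_isQuot (Algz7.isQuot_modPowπ I (n + 1) R.M)) _)
  have hτ : ∀ n, Formal.modPowπ I (n + 1) N ≫ τ n = φ ≫ Formal.modPowπ I (n + 1) R.M := fun n =>
    cokernel.π_desc _ _ _
  let T : Formal.completion I N ⟶ Formal.completion I R.M := NatTrans.ofOpSequence τ fun n => by
    haveI : Epi (Formal.modPowπ I (n + 1 + 1) N) := coequalizer.π_epi
    rw [Algz7.completion_map_succ, Algz7.completion_map_succ]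
    refine (cancel_epi (Formal.modPowπ I (n + 1 + 1) N)).1 ?_
    rw [← Category.assoc, Formal.modPowπ_trans, hτ, ← Category.assoc, hτ, Category.assoc, Formal.modPowπ_trans]
  obtain ⟨ψ, -, huniq⟩ := S0060.result A I X N R.M hN R.coh T
  have h1 : φ = ψ := huniq φ fun n => hτ n
  have h2 : φ' = ψ := huniq φ' fun n => by
    refine (hτ n).trans ((cancel_mono (R.θ.hom.app (op n))).1 ?_)
    rw [Category.assoc, Category.assoc]
    exact h n
  exact h1.trans h2.symm

end Alg

end FSys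

end Groth.Agent.Pi1Ext.FAlg
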