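import Groth.Agent.Pi1Ext.FAlg.Mult
import Groth.Agent.RelSpecX.AffHom
import Groth.Agent.RelSpecX.Gamma

/-!
# The finite scheme of the algebraisation
-/

set_option linter.style.haveILetI false
set_option linter.unusedSectionVars false
set_option backward.isDefEq.respectTransparency false
set_option backward.isDefEq.respectTransparency.types false

universe u

open CategoryTheory CategoryTheory.Limits AlgebraicGeometry TopologicalSpace Opposite

noncomputable section

namespace Groth.Agent.Pi1Ext.FAlg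

open Groth.Agent Groth.Agent.AmpleVan

variable {A : Type u} [CommRing A] {I : Ideal A} {X : Scheme.{u}} [X.Over (Spec (CommRingCat.of A))]
  [IsLocallyNoetherian X] [IsNoetherianRing A] [IsAdicComplete I A] [IsProper (X ↘ Spec (CommRingCat.of A))]

namespace FSys.Alg

variable {S : FSys I X} (R : S.Alg)

/-- Sections form a commutative ring. -/
@[reducible] def secRing (U : X.Opens) : CommRing Γ(R.M, U) :=
  { (inferInstance : AddCommGroup Γ(R.M, U)) with
    mul := R.mul U
    one := R.emb U 1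
    mul_assoc := R.mul_assoc' U
    one_mul := R.one_mul' U
    mul_one := fun x => (R.mul_comm' U x _).trans (R.one_mul' U x)
    left_distrib := R.mul_add U
    right_distrib := R.add_mul U
    zero_mul := fun x => by
      show R.mul U 0 x = 0
      have h := R.add_mul U 0 0 x
      rw [add_zero] at h
      exact (left_eq_add.1 h)
    mul_zero := fun x => by
      show R.mul U x 0 = 0
      have h := R.mul_add U x 0 0
      rw [add_zero] at h
      exact (left_eq_add.1 h)
    mul_comm := R.mul_comm' U }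

/-- The presheaf of algebras. -/
def Bp : TopCat.Presheaf CommRingCat.{u} X.carrier where
  obj U := @CommRingCat.of Γ(R.M, U.unop) (R.secRing U.unop)
  map {U V} i :=
    letI := R.secRing U.unop
    letI := R.secRing V.unop
    CommRingCat.ofHom
      { toFun := R.M.presheaf.map i
        map_zero' := map_zero (R.M.presheaf.map i).hom
        map_add' := map_add (R.M.presheaf.map i).hom
        map_one' := (R.emb_res i.unop.le 1).trans (congrArg (R.emb V.unop) (map_one _))
        map_mul' := fun x y => R.mul_res i.unop.le x y }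
  map_id U := by
    refine CommRingCat.hom_ext (RingHom.ext fun x => ?_)
    exact congr($(R.M.presheaf.map_id U) x)
  map_comp i j := by
    refine CommRingCat.hom_ext (RingHom.ext fun x => ?_)
    exact congr($(R.M.presheaf.map_comp i j) x)

theorem isSheaf_Bp : R.Bp.IsSheaf := by
  refine (TopCat.Presheaf.isSheaf_iff_isSheaf_comp (forget CommRingCat) _).mpr ?_
  have e : R.Bp ⋙ forget CommRingCat ≅ R.M.presheaf ⋙ forget AddCommGrpCat :=
    NatIso.ofComponents (fun _ => Iso.refl _) (by intros; rfl)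
  exact TopCat.Presheaf.isSheaf_of_iso e.symm
    ((TopCat.Presheaf.isSheaf_iff_isSheaf_comp (forget AddCommGrpCat) _).mp R.M.isSheaf)

theorem emb_mul_eq_smul (U : X.Opens) (c : Γ(X, U)) (x : Γ(R.M, U)) : R.mul U (R.emb U c) x = c • x := by
  rw [← mul_one c, ← smul_emb, smul_mul, one_mul']
  simp

/-- The structure map. -/
def strB : X.presheaf ⟶ R.Bp where
  app U :=
    letI := R.secRing U.unop
    CommRingCat.ofHom (show Γ(X, U.unop) →+* Γ(R.M, U.unop) from
      { toFun := R.emb U.unop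
        map_zero' := map_zero (R.η.app U.unop).hom
        map_add' := map_add (R.η.app U.unop).hom
        map_one' := rfl
        map_mul' := fun c d => (R.smul_emb U.unop c d).symm.trans (R.emb_mul_eq_smul U.unop c _).symm })
  naturality U V i := by
    refine CommRingCat.hom_ext (RingHom.ext fun x => ?_)
    exact (R.emb_res i.unop.le x).symm

theorem isQC_B : RelSpec.IsQC R.Bp R.strB := by
  intro U hU r
  set D := X.basicOpen r
  letI := R.secRing U
  letI := R.secRing D
  let ρ : Γ(R.M, U) →+* Γ(R.M, D) := (R.Bp.map (homOfLE (X.basicOpen_le r)).op).hom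
  letI := ρ.toAlgebra
  have hpow : ∀ (W : X.Opens) (c : Γ(X, W)) (k : ℕ), (R.strB.app (op W)).hom c ^ k = (R.strB.app (op W)).hom (c ^ k) :=
    fun W c k => ((R.strB.app (op W)).hom.map_pow c k).symm
  show IsLocalization.Away (R.emb U r) Γ(R.M, D)
  have hnat : ∀ a : Γ(X, U), R.emb D (X.presheaf.map (homOfLE (X.basicOpen_le r)).op a) = ρ (R.emb U a) :=
    fun a => (R.emb_res (X.basicOpen_le r) a).symm
  have hek : ∀ k : ℕ, R.emb U (r ^ k) = R.emb U r ^ k := fun k => (R.strB.app (op U)).hom.map_pow r k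
  refine (isLocalization_iff _ _).mpr ⟨fun ⟨_, n, rfl⟩ => ?_, fun z => ?_, fun {x y} hxy => ?_⟩
  · show IsUnit (ρ (R.emb U r ^ n))
    rw [map_pow, ← hnat]
    exact ((RingedSpace.isUnit_res_basicOpen X.toRingedSpace r).map (R.strB.app (op D)).hom).pow n
  · obtain ⟨n, t, ht⟩ := QCoh.exists_pow_smul_eq_map R.coh.1 hU r z
    refine ⟨(t, ⟨_, n, rfl⟩), ?_⟩
    show R.mul D z (ρ (R.emb U r ^ n)) = ρ t
    rw [← hek, ← hnat, map_pow, R.mul_comm' D, emb_mul_eq_smul]
    exact ht.symm
  · have h0 : ρ (x - y) = 0 := by rw [map_sub]; exact sub_eq_zero.mpr hxy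
    obtain ⟨n, hn⟩ := QCoh.exists_pow_smul_eq_zero R.coh.1 hU r (x - y) h0
    refine ⟨⟨_, n, rfl⟩, ?_⟩
    show R.mul U (R.emb U r ^ n) x = R.mul U (R.emb U r ^ n) y
    rw [← hek, emb_mul_eq_smul, emb_mul_eq_smul, ← sub_eq_zero, ← smul_sub]
    exact hn

/-- The algebra. -/
def B : RelSpec.QCAlg X := ⟨R.Bp, R.isSheaf_Bp, R.strB, R.isQC_B⟩

/-- Evaluation at a level, as a map of algebras. -/
def evNat (n : ℕ) : R.Bp ⟶ (S.b n).base _* (S.Y n).presheaf where
  app U :=
    letI := R.secRing U.unop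
    CommRingCat.ofHom (show Γ(R.M, U.unop) →+* Γ(S.Y n, S.b n ⁻¹ᵁ U.unop) from
      { toFun := R.ev n U.unop
        map_zero' := map_zero ((R.r n).app U.unop).hom
        map_add' := R.ev_add n U.unop
        map_one' := (R.ev_emb n U.unop 1).trans (map_one _)
        map_mul' := R.ev_mul n U.unop })
  naturality U V i := by
    refine CommRingCat.hom_ext (RingHom.ext fun x => ?_)
    exact R.ev_res n i.unop.le x

theorem strB_evNat (n : ℕ) : R.strB ≫ R.evNat n = (S.b n).c := by
  refine NatTrans.ext (funext fun U => CommRingCat.hom_ext (RingHom.ext fun x => ?_))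
  exact R.ev_emb n U.unop x

/-- The map of algebras defining `Y n ⟶ W`. -/
def ω (n : ℕ) : AffAlg.algHoms R.B.π (S.b n) :=
  ⟨R.B.gammaMap ≫ R.evNat n, by
    rw [← Category.assoc]
    exact (congrArg (· ≫ R.evNat n) R.B.π_c_gammaMap).trans (R.strB_evNat n)⟩

instance isIso_gamma (U : (Opens X)ᵒᵖ) : IsIso (R.B.gammaMap.app U) :=
  haveI : IsIso R.B.gammaMap := RelSpecX.isIso_gammaMap R.B
  ((asIso R.B.gammaMap).app U).isIso_hom

/-- The map of a level into the algebraisation. -/
def toW (n : ℕ) : S.Y n ⟶ R.B.spec := RelSpecX.ofAlgHom R.B.π (S.b n) (R.ω n)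

theorem toW_π (n : ℕ) : R.toW n ≫ R.B.π = S.b n := RelSpecX.ofAlgHom_comp _ _ _

instance (n : ℕ) : IsClosedImmersion (R.toW n) := by
  refine RelSpecX.isClosedImmersion_of_surjective R.B.π (S.b n) (R.toW n) (R.toW_π n) fun U => ?_
  show Function.Surjective
    ((AffAlg.algHom R.B.π (S.b n) (RelSpecX.ofAlgHom R.B.π (S.b n) (R.ω n)) (R.toW_π n)).app (op U.1)).hom
  rw [RelSpecX.algHom_ofAlgHom]
  have h1 : Function.Surjective (R.B.gammaMap.app (op U.1)).hom :=
    (ConcreteCategory.bijective_of_isIso (R.B.gammaMap.app (op U.1))).2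
  exact (R.surjective_r n U.2).comp h1

theorem bijective_gamma (U : X.Opens) : Function.Bijective (R.B.gammaMap.app (op U)).hom :=
  ConcreteCategory.bijective_of_isIso (R.B.gammaMap.app (op U))

theorem gamma_app_π (U : X.Opens) (c : Γ(X, U)) : (R.B.gammaMap.app (op U)).hom (R.B.π.app U c) = R.emb U c :=
  congr($(R.B.π_c_gammaMap).app (op U) c)

theorem toW_app_eq_zero_iff (n : ℕ) (U : X.affineOpens) (w : Γ(R.B.spec, R.B.π ⁻¹ᵁ U.1)) :
    (R.toW n).app (R.B.π ⁻¹ᵁ U.1) w = 0 ↔ R.ev n U.1 ((R.B.gammaMap.app (op U.1)).hom w) = 0 := by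
  have e : S.b n ⁻¹ᵁ U.1 = R.toW n ⁻¹ᵁ (R.B.π ⁻¹ᵁ U.1) := by
    rw [← Scheme.Hom.comp_preimage, R.toW_π]
  have h := RelSpecX.appLE_ofAlgHom R.B.π (S.b n) (R.ω n) U e.le
  have h2 : (S.Y n).presheaf.map (homOfLE e.le).op ((R.toW n).app (R.B.π ⁻¹ᵁ U.1) w) =
      R.ev n U.1 ((R.B.gammaMap.app (op U.1)).hom w) := congr($h w)
  haveI : IsIso (homOfLE e.le) := ⟨homOfLE e.ge, rfl, rfl⟩
  rw [← h2]
  exact (map_eq_zero_iff _ (ConcreteCategory.bijective_of_isIso
    ((S.Y n).presheaf.map (homOfLE e.le).op)).1).symm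

instance overA : R.B.spec.Over (Spec (CommRingCat.of A)) := ⟨R.B.π ≫ (X ↘ Spec (CommRingCat.of A))⟩

theorem scal_spec (U : X.Opens) (a : A) :
    scal A (R.B.π ⁻¹ᵁ U) a = R.B.π.app U (scal A U a) := by
  show Coh.resTop _ _ ((R.B.π ≫ (X ↘ Spec (CommRingCat.of A))).appTop ((Scheme.ΓSpecIso _).inv a)) = _
  exact (resTop_app R.B.π _ U).symm

theorem isPullback_toW (n : ℕ) : IsPullback (R.toW n) (S.a n) R.B.π (CohB1.thickι (str X) I n) := by
  let j := CohB1.thickι (str X) I n
  let P := pullback R.B.π j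
  let i₂ : P ⟶ R.B.spec := pullback.fst _ _
  haveI : IsClosedImmersion i₂ := MorphismProperty.pullback_fst _ _ (FibreVanish.closed_thickι (str X) I n)
  let l : S.Y n ⟶ P := pullback.lift (R.toW n) (S.a n) (R.toW_π n)
  have hl : l ≫ i₂ = R.toW n := pullback.lift_fst _ _ _
  have sq : IsPullback i₂ (pullback.snd R.B.π j ≫ CohB1.thickToBase (str X) I n)
      (R.B.spec ↘ Spec (CommRingCat.of A))
      (Spec.map (CommRingCat.ofHom (Ideal.Quotient.mk (I ^ (n + 1))))) :=
    (IsPullback.of_hasPullback R.B.π j).paste_vert (IsPullback.of_hasPullback (str X) (CohB1.specQuot I n))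
  have hker : i₂.ker = (R.toW n).ker := by
    refine Scheme.IdealSheafData.ext_of_iSup_eq_top (fun U : X.affineOpens => ⟨R.B.π ⁻¹ᵁ U.1, U.2.preimage R.B.π⟩)
      (IsOpenCover.comap (iSup_affineOpens_eq_top X) R.B.π.base.1) fun U => ?_
    rw [ker_ideal_of_isPullback sq, FComplLib.ideal_ker]
    ext w
    rw [RingHom.mem_ker]
    refine Iff.trans ?_ (R.toW_app_eq_zero_iff n U w).symm
    let γ : Γ(R.B.spec, R.B.π ⁻¹ᵁ U.1) → Γ(R.M, U.1) := fun v => (R.B.gammaMap.app (op U.1)).hom v
    show _ ↔ (R.r n).app U.1 (γ w) = 0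
    rw [R.r_eq_zero_iff n U.2]
    letI := R.secRing U.1
    let g : Γ(R.B.spec, R.B.π ⁻¹ᵁ U.1) →+* Γ(R.M, U.1) := (R.B.gammaMap.app (op U.1)).hom
    let e : Γ(X, U.1) →+* Γ(R.M, U.1) := (R.strB.app (op U.1)).hom
    have hs : scal A (R.B.π ⁻¹ᵁ U.1) = (R.B.π.app U.1).hom.comp (scal A U.1) := RingHom.ext (R.scal_spec U.1)
    have hg : g.comp (R.B.π.app U.1).hom = e := RingHom.ext (R.gamma_app_π U.1)
    let J := (I ^ (n + 1)).map (scal A U.1)
    have h1 : w ∈ (I ^ (n + 1)).map (scal A (R.B.π ⁻¹ᵁ U.1)) ↔ g w ∈ J.map e := by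
      rw [hs, ← Ideal.map_map, ← hg, ← Ideal.map_map]
      refine ⟨Ideal.mem_map_of_mem g, fun h => ?_⟩
      obtain ⟨v, hv, hvw⟩ := (Ideal.mem_map_iff_of_surjective g (R.bijective_gamma U.1).2).1 h
      exact (R.bijective_gamma U.1).1 hvw ▸ hv
    refine h1.trans ⟨fun h => ?_, fun h => ?_⟩
    · suffices ∀ z ∈ J.map e, z ∈ J • (⊤ : Submodule Γ(X, U.1) Γ(R.M, U.1)) from this _ h
      intro z hz
      induction hz using Submodule.span_induction with
      | mem z hz =>
        obtain ⟨c, hc, rfl⟩ := hz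
        have : e c = c • R.emb U.1 1 := ((R.smul_emb U.1 c 1).trans (by rw [mul_one]; rfl)).symm
        rw [this]
        exact Submodule.smul_mem_smul hc trivial
      | zero => exact zero_mem _
      | add z z' _ _ hh hh' => exact add_mem hh hh'
      | smul r z _ hh =>
        show R.mul U.1 r z ∈ _
        clear h h1
        refine Submodule.smul_induction_on hh (fun c hc v _ => ?_) fun v v' hv hv' => ?_
        · rw [R.mul_smul']; exact Submodule.smul_mem_smul hc trivial
        · rw [R.mul_add]; exact add_mem hv hv'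
    · suffices ∀ z ∈ J • (⊤ : Submodule Γ(X, U.1) Γ(R.M, U.1)), z ∈ J.map e from this _ h
      intro z hz
      refine Submodule.smul_induction_on hz (fun c hc v _ => ?_) fun v v' hv hv' => add_mem hv hv'
      rw [← R.emb_mul_eq_smul]
      exact Ideal.mul_mem_right v _ (Ideal.mem_map_of_mem e hc)
  haveI : IsIso l := by
    have h : l = IsClosedImmersion.lift i₂ (R.toW n) hker.le := by
      rw [← cancel_mono i₂, IsClosedImmersion.lift_fac, hl]
    rw [h]
    exact IsClosedImmersion.isIso_lift _ _ hker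
  refine (IsPullback.of_hasPullback R.B.π j).of_iso (asIso l).symm (Iso.refl _) (Iso.refl _) (Iso.refl _)
    ?_ ?_ (by simp) (by simp [j])
  · rw [Iso.refl_hom, Category.comp_id, Iso.symm_hom, asIso_inv, IsIso.eq_inv_comp]
    exact hl
  · rw [Iso.refl_hom, Category.comp_id, Iso.symm_hom, asIso_inv, IsIso.eq_inv_comp]
    exact pullback.lift_snd _ _ _

instance : IsFinite R.B.π := by
  refine (isFinite_iff _).2 ⟨inferInstance, fun U hU => ?_⟩
  letI := R.secRing U
  haveI := QCoh.finite_sections R.coh hU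
  let e : Γ(X, U) →+* Γ(R.M, U) := (R.strB.app (op U)).hom
  have hsm : ∀ (c : Γ(X, U)) (x : Γ(R.M, U)), R.mul U (R.emb U c) x = c • x := R.emb_mul_eq_smul U
  obtain ⟨s, hs⟩ := (Module.Finite.fg_top : (⊤ : Submodule Γ(X, U) Γ(R.M, U)).FG)
  have hspan : ∀ x, x ∈ Submodule.span Γ(X, U) (s : Set Γ(R.M, U)) := fun x => hs ▸ trivial
  have key : ∀ (P : Γ(R.M, U) → Prop), (∀ x ∈ s, P x) → P 0 → (∀ x y, P x → P y → P (x + y)) →
      (∀ (c : Γ(X, U)) (x : Γ(R.M, U)), P x → P (R.mul U (R.emb U c) x)) → ∀ x, P x := by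
    intro P h1 h2 h3 h4 x
    induction hspan x using Submodule.span_induction with
    | mem x hx => exact h1 x hx
    | zero => exact h2
    | add x y _ _ h h' => exact h3 x y h h'
    | smul c x _ h => exact hsm c x ▸ h4 c x h
  have hfin : e.Finite := by
    let md : Module Γ(X, U) Γ(R.M, U) := e.toAlgebra.toModule
    let N := @Submodule.span Γ(X, U) Γ(R.M, U) _ _ md (s : Set Γ(R.M, U))
    show @Module.Finite Γ(X, U) Γ(R.M, U) _ _ md
    exact @Module.Finite.of_fg_top _ _ _ _ md ⟨s, eq_top_iff.2 fun x _ => key (fun y => y ∈ N)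
      (fun y hy => @Submodule.subset_span _ _ _ _ md _ y hy) (N.zero_mem) (fun y z hy hz => N.add_mem hy hz)
      (fun c y hy => N.smul_mem c hy) x⟩
  let g : Γ(R.B.spec, R.B.π ⁻¹ᵁ U) →+* Γ(R.M, U) := (R.B.gammaMap.app (op U)).hom
  let g' : Γ(R.B.spec, R.B.π ⁻¹ᵁ U) ≃+* Γ(R.M, U) := RingEquiv.ofBijective g (R.bijective_gamma U)
  have h0 : (R.B.π.app U).hom = g'.symm.toRingHom.comp e := by
    refine RingHom.ext fun c => g'.injective ?_
    show g' _ = g' (g'.symm (e c))
    rw [RingEquiv.apply_symm_apply]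
    exact R.gamma_app_π U c
  rw [h0]
  exact (RingHom.Finite.of_surjective _ g'.symm.surjective).comp hfin

end FSys.Alg

end Groth.Agent.Pi1Ext.FAlg
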