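import Groth.Agent.S12073
import Mathlib

/-!
# Finite étale covers spread out along filtered colimits of rings
-/

set_option linter.style.haveILetI false
set_option backward.isDefEq.respectTransparency false
set_option backward.isDefEq.respectTransparency.types false

universe u

open CategoryTheory CategoryTheory.Limits AlgebraicGeometry Opposite

noncomputable section

namespace Groth.Agent.Pi1Ext.FAlg.Stage

variable {J : Type u} [SmallCategory J] [IsFiltered J] {R : CommRingCat.{u}} (rg : J ⥤ CommRingCat.{u})
  (φ : (Functor.const J).obj R ⟶ rg) (c : Cocone rg) {X : Scheme.{u}} (f : X ⟶ Spec R)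

/-- The spectra. -/
abbrev specs : Jᵒᵖ ⥤ Scheme.{u} := rg.op ⋙ Scheme.Spec

/-- The structure maps. -/
abbrev str (s : Jᵒᵖ) : Spec (rg.obj s.unop) ⟶ Spec R := Spec.map (φ.app s.unop)

theorem str_map {s t : Jᵒᵖ} (g : s ⟶ t) : (specs rg).map g ≫ str rg φ t = str rg φ s := by
  show Spec.map _ ≫ Spec.map _ = Spec.map _
  rw [← Spec.map_comp]
  exact congrArg Spec.map ((φ.naturality g.unop).symm.trans (Category.id_comp _))

/-- The cone on the spectrum of the colimit. -/
def specCone : Cone (specs rg) := Scheme.Spec.mapCone c.op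

variable (a : R ⟶ c.pt) (ha : ∀ j, φ.app j ≫ c.ι.app j = a)

include ha in
theorem str_cone (s : Jᵒᵖ) : (specCone rg c).π.app s ≫ str rg φ s = Spec.map a := by
  show Spec.map _ ≫ Spec.map _ = Spec.map _
  rw [← Spec.map_comp]
  exact congrArg Spec.map (ha s.unop)

/-- The base changes. -/
def diag : Jᵒᵖ ⥤ Scheme.{u} where
  obj s := pullback f (str rg φ s)
  map {s t} g := pullback.lift (pullback.fst _ _) (pullback.snd _ _ ≫ (specs rg).map g)
    (by rw [Category.assoc, str_map]; exact pullback.condition)
  map_id s := by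
    refine pullback.hom_ext ?_ ?_
    · exact (pullback.lift_fst _ _ _).trans (Category.id_comp _).symm
    · refine (pullback.lift_snd _ _ _).trans ?_
      rw [CategoryTheory.Functor.map_id]
      exact (Category.comp_id _).trans (Category.id_comp _).symm
  map_comp g g' := by
    refine pullback.hom_ext ?_ ?_
    · refine (pullback.lift_fst _ _ _).trans ?_
      rw [Category.assoc, pullback.lift_fst, pullback.lift_fst]
    · refine (pullback.lift_snd _ _ _).trans ?_
      rw [Category.assoc, pullback.lift_snd, pullback.lift_snd_assoc, Functor.map_comp, Category.assoc]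

/-- Projection to the spectra. -/
def toSpecs : diag rg φ f ⟶ specs rg where
  app s := pullback.snd f (str rg φ s)
  naturality _ _ _ := pullback.lift_snd _ _ _

/-- The projections. -/
def proj (s : Jᵒᵖ) : pullback f (Spec.map a) ⟶ pullback f (str rg φ s) :=
  pullback.lift (pullback.fst _ _) (pullback.snd _ _ ≫ (specCone rg c).π.app s)
    (by rw [Category.assoc, str_cone rg φ c a ha]; exact pullback.condition)

/-- The cone of base changes. -/
def cone : Cone (diag rg φ f) where
  pt := pullback f (Spec.map a)
  π :=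
    { app := proj rg φ c f a ha
      naturality := fun s t g => by
        refine (Category.id_comp _).trans (pullback.hom_ext ?_ ?_)
        · refine (pullback.lift_fst _ _ _).trans ?_
          refine Eq.trans ?_ (Category.assoc _ _ _).symm
          exact (pullback.lift_fst _ _ _).symm.trans (congrArg (proj rg φ c f a ha s ≫ ·) (pullback.lift_fst _ _ _).symm)
        · refine (pullback.lift_snd _ _ _).trans ?_
          refine Eq.trans ?_ (Category.assoc _ _ _).symm
          refine Eq.trans ?_ (congrArg (proj rg φ c f a ha s ≫ ·) (pullback.lift_snd _ _ _).symm)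
          refine Eq.trans ?_ (Category.assoc _ _ _)
          refine Eq.trans ?_ (congrArg (· ≫ (specs rg).map g) (pullback.lift_snd _ _ _).symm)
          rw [Category.assoc]
          exact congrArg (pullback.snd _ _ ≫ ·) ((specCone rg c).w g).symm }

theorem isPullback_proj (s : Jᵒᵖ) :
    IsPullback (proj rg φ c f a ha s) (pullback.snd f (Spec.map a))
      (pullback.snd f (str rg φ s)) ((specCone rg c).π.app s) := by
  refine IsPullback.of_right ?_ (pullback.lift_snd _ _ _) (IsPullback.of_hasPullback f (str rg φ s))
  rw [show proj rg φ c f a ha s ≫ pullback.fst f (str rg φ s) = pullback.fst _ _ from pullback.lift_fst _ _ _,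
    str_cone rg φ c a ha]
  exact IsPullback.of_hasPullback f _

attribute [local instance] IsCofiltered.isConnected in
/-- It is a limit. -/
def isLimitCone (hc : IsColimit c) : IsLimit (cone rg φ c f a ha) :=
  isLimitOfIsPullbackOfIsConnected (toSpecs rg φ f) _ (specCone rg c)
    { hom := pullback.snd f (Spec.map a), w := fun s => (pullback.lift_snd _ _ _).symm }
    (fun s => isPullback_proj rg φ c f a ha s) (isLimitOfPreserves Scheme.Spec hc.op)

theorem isAffineHom_map {s t : Jᵒᵖ} (g : s ⟶ t) : IsAffineHom ((diag rg φ f).map g) := by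
  haveI : IsAffineHom ((diag rg φ f).map g ≫ pullback.fst f (str rg φ t)) := by
    rw [show (diag rg φ f).map g ≫ pullback.fst f (str rg φ t) = pullback.fst f (str rg φ s) from pullback.lift_fst _ _ _]
    exact MorphismProperty.pullback_fst _ _ inferInstance
  haveI : IsAffineHom (pullback.fst f (str rg φ t)) := MorphismProperty.pullback_fst _ _ inferInstance
  exact IsAffineHom.of_comp ((diag rg φ f).map g) (pullback.fst f (str rg φ t))

include ha in
/-- A cover over the colimit comes from a stage. -/
theorem exists_stage [CompactSpace X] [QuasiSeparatedSpace X] (hc : IsColimit c)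
    (V : FEt.Cat (pullback f (Spec.map a))) :
    ∃ (j : J) (Vj : FEt.Cat (pullback f (Spec.map (φ.app j))))
      (p : pullback f (Spec.map a) ⟶ pullback f (Spec.map (φ.app j))),
      p ≫ pullback.fst _ _ = pullback.fst _ _ ∧ p ≫ pullback.snd _ _ = pullback.snd _ _ ≫ Spec.map (c.ι.app j) ∧
      Nonempty ((FEt.restrict p).obj Vj ≅ V) := by
  haveI : ∀ (s t : Jᵒᵖ) (g : s ⟶ t), IsAffineHom ((diag rg φ f).map g) := fun _ _ g => isAffineHom_map rg φ f g
  haveI : ∀ s, CompactSpace ((diag rg φ f).obj s) := fun s => by
    show CompactSpace ↥(pullback f (str rg φ s))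
    haveI : IsAffineHom (pullback.fst f (str rg φ s)) := MorphismProperty.pullback_fst _ _ inferInstance
    exact QuasiCompact.compactSpace_of_compactSpace (pullback.fst f (str rg φ s))
  haveI : ∀ s, QuasiSeparatedSpace ((diag rg φ f).obj s) := fun s => by
    show QuasiSeparatedSpace ↥(pullback f (str rg φ s))
    haveI : IsAffineHom (pullback.fst f (str rg φ s)) := MorphismProperty.pullback_fst _ _ inferInstance
    exact quasiSeparatedSpace_of_quasiSeparated (pullback.fst f (str rg φ s))
  obtain ⟨s, Vs, e⟩ := (Groth.Agent.S12073.result (diag rg φ f) (cone rg φ c f a ha)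
    (isLimitCone rg φ c f a ha hc)).1 V
  exact ⟨s.unop, Vs, proj rg φ c f a ha s, pullback.lift_fst _ _ _, pullback.lift_snd _ _ _, e⟩

end Groth.Agent.Pi1Ext.FAlg.Stage

namespace Groth.Agent.Pi1Ext.FAlg

/-- Liftability transfers along a commutative square. -/
theorem exists_lift_of_square {X₀ X T₀ T : Scheme.{u}} (i : X₀ ⟶ X) (i' : T₀ ⟶ T) (p₀ : X₀ ⟶ T₀) (p : X ⟶ T)
    (w : p₀ ≫ i' = i ≫ p) [(FEt.restrict i').EssSurj] (V : FEt.Cat X₀) (V' : FEt.Cat T₀)
    (e : (FEt.restrict p₀).obj V' ≅ V) :
    ∃ W : FEt.Cat X, Nonempty ((FEt.restrict i).obj W ≅ V) := by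
  let W' := (FEt.restrict i').objPreimage V'
  refine ⟨(FEt.restrict p).obj W', ⟨?_⟩⟩
  exact ((MorphismProperty.Over.pullbackComp (P := FEt.prop) (Q := ⊤) i p).app W').symm ≪≫
    eqToIso (congrArg (fun m => (FEt.restrict m).obj W') w.symm) ≪≫ (MorphismProperty.Over.pullbackComp (P := FEt.prop) (Q := ⊤) p₀ i').app W' ≪≫
    (FEt.restrict p₀).mapIso ((FEt.restrict i').objObjPreimageIso V') ≪≫ e

end Groth.Agent.Pi1Ext.FAlg
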