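import Groth.Agent.AmpleVan.FibreVanish
import Groth.Agent.Pi1Ext.UHDescent
import Groth.Agent.QCoh.DevissageP

/-!
# Finite étale covers of all thickenings of the closed fibre
-/

set_option linter.style.haveILetI false
set_option backward.isDefEq.respectTransparency false
set_option backward.isDefEq.respectTransparency.types false

universe u

open CategoryTheory CategoryTheory.Limits AlgebraicGeometry TopologicalSpace Opposite

noncomputable section

namespace Groth.Agent.Pi1Ext.FAlg

open Groth.Agent Groth.Agent.AmpleVan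

variable {A : Type u} [CommRing A] (I : Ideal A) (X : Scheme.{u}) [X.Over (Spec (CommRingCat.of A))]

/-- The structure map. -/
abbrev str : X ⟶ Spec (CommRingCat.of A) := X ↘ Spec (CommRingCat.of A)

/-- A compatible system of finite étale covers of the thickenings. -/
structure FSys where
  /-- the levels -/
  Y : ℕ → Scheme.{u}
  /-- the covering maps -/
  a : ∀ n, Y n ⟶ CohB1.thick (str X) I n
  /-- the transition maps -/
  t : ∀ n, Y n ⟶ Y (n + 1)
  cart : ∀ n, IsPullback (t n) (a n) (a (n + 1)) (CohB1.thickTrans (str X) I n)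
  fin : ∀ n, IsFinite (a n)
  et : ∀ n, Etale (a n)

variable {I X}

instance (S : FSys I X) (n : ℕ) : IsFinite (S.a n) := S.fin n
instance (S : FSys I X) (n : ℕ) : Etale (S.a n) := S.et n

theorem surjective_thickTrans (n : ℕ) : Surjective (CohB1.thickTrans (str X) I n) := by
  refine MorphismProperty.of_isPullback (FibreVanish.cart (str X) I n).flip ?_
  refine ⟨fun y => ?_⟩
  have h : Surjective (AdicSys.jq I (n + 1)) := AdicSys.surjective_jq I (n + 1)
  obtain ⟨x, hx⟩ := h.surj y
  exact ⟨(AdicSys.jq I n).base x, by rw [← Scheme.Hom.comp_apply]; exact hx⟩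

theorem isClosedImmersion_thickTrans (n : ℕ) : IsClosedImmersion (CohB1.thickTrans (str X) I n) := by
  refine MorphismProperty.of_isPullback (FibreVanish.cart (str X) I n).flip ?_
  exact IsClosedImmersion.spec_of_surjective _
    (Ideal.Quotient.factor_surjective (Ideal.pow_le_pow_right (Nat.le_succ (n + 1))))

/-- A cover of a stage lifts to the next one. -/
theorem exists_next {n : ℕ} {Y : Scheme.{u}} (a : Y ⟶ CohB1.thick (str X) I n) (h1 : IsFinite a) (h2 : Etale a) :
    ∃ (Y' : Scheme.{u}) (a' : Y' ⟶ CohB1.thick (str X) I (n + 1)) (t : Y ⟶ Y'),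
      IsFinite a' ∧ Etale a' ∧ IsPullback t a a' (CohB1.thickTrans (str X) I n) := by
  haveI := surjective_thickTrans (I := I) (X := X) n
  haveI := isClosedImmersion_thickTrans (I := I) (X := X) n
  haveI := UH.restrict_essSurj (CohB1.thickTrans (str X) I n)
  let V : FEt.Cat (CohB1.thick (str X) I n) := MorphismProperty.Over.mk ⊤ a ⟨h1, h2⟩
  let W := (FEt.restrict (CohB1.thickTrans (str X) I n)).objPreimage V
  let e := (FEt.restrict (CohB1.thickTrans (str X) I n)).objObjPreimageIso V
  let e' : pullback W.hom (CohB1.thickTrans (str X) I n) ≅ Y :=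
    (MorphismProperty.Over.forget _ _ _ ⋙ CategoryTheory.Over.forget _).mapIso e
  have he : e'.hom ≫ a = pullback.snd W.hom (CohB1.thickTrans (str X) I n) := MorphismProperty.Over.w e.hom
  refine ⟨W.left, W.hom, e'.inv ≫ pullback.fst _ _, W.prop.1, W.prop.2, ?_⟩
  refine (IsPullback.of_hasPullback W.hom (CohB1.thickTrans (str X) I n)).of_iso e' (Iso.refl _) (Iso.refl _)
    (Iso.refl _) ?_ ?_ (by simp) (by simp)
  · simp
  · simp [he]

/-- The stages built by recursion. -/
structure Stage (I : Ideal A) (X : Scheme.{u}) [X.Over (Spec (CommRingCat.of A))] (n : ℕ) where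
  /-- the cover -/
  Y : Scheme.{u}
  /-- its map -/
  a : Y ⟶ CohB1.thick (str X) I n
  fin : IsFinite a
  et : Etale a

/-- The next stage. -/
def Stage.next {n : ℕ} (S : Stage I X n) : Stage I X (n + 1) :=
  ⟨(exists_next S.a S.fin S.et).choose, (exists_next S.a S.fin S.et).choose_spec.choose,
    (exists_next S.a S.fin S.et).choose_spec.choose_spec.choose_spec.1,
    (exists_next S.a S.fin S.et).choose_spec.choose_spec.choose_spec.2.1⟩

/-- All stages. -/
def Stage.iter (S : Stage I X 0) : ∀ n, Stage I X n
  | 0 => S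
  | n + 1 => (Stage.iter S n).next

/-- The system generated by a cover of the closed fibre. -/
def FSys.ofZero {Y : Scheme.{u}} (a : Y ⟶ CohB1.thick (str X) I 0) (h1 : IsFinite a) (h2 : Etale a) : FSys I X :=
  let S : Stage I X 0 := ⟨Y, a, h1, h2⟩
  { Y := fun n => (S.iter n).Y
    a := fun n => (S.iter n).a
    t := fun n => (exists_next (S.iter n).a (S.iter n).fin (S.iter n).et).choose_spec.choose_spec.choose
    cart := fun n => (exists_next (S.iter n).a (S.iter n).fin (S.iter n).et).choose_spec.choose_spec.choose_spec.2.2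
    fin := fun n => (S.iter n).fin
    et := fun n => (S.iter n).et }

namespace FSys

variable (S : FSys I X)

/-- The maps to `X`. -/
def b (n : ℕ) : S.Y n ⟶ X := S.a n ≫ CohB1.thickι (str X) I n

instance (n : ℕ) : IsFinite (S.b n) := by
  unfold b; infer_instance

theorem t_b (n : ℕ) : S.t n ≫ S.b (n + 1) = S.b n := by
  rw [b, b, ← Category.assoc, (S.cart n).w, Category.assoc, FibreVanish.thickTrans_ι]

/-- The underlying adic system. -/
def adic : AdicSys A I where
  X := S.Y
  p n := S.a n ≫ CohB1.thickToBase (str X) I n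
  i := S.t
  cart n := (S.cart n).paste_vert (FibreVanish.cart (str X) I n)

instance overA (n : ℕ) : (S.Y n).Over (Spec (CommRingCat.of A)) := S.adic.overBase n

theorem b_over (n : ℕ) : S.b n ≫ str X = S.Y n ↘ Spec (CommRingCat.of A) := by
  show (S.a n ≫ pullback.fst _ _) ≫ str X = (S.a n ≫ pullback.snd _ _) ≫ CohB1.specQuot I n
  rw [Category.assoc, Category.assoc, pullback.condition]

theorem isClosedImmersion_t (n : ℕ) : IsClosedImmersion (S.t n) :=
  MorphismProperty.of_isPullback (S.cart n).flip (isClosedImmersion_thickTrans n)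

variable [IsLocallyNoetherian X]

theorem isLocallyNoetherian_Y (n : ℕ) : IsLocallyNoetherian (S.Y n) :=
  LocallyOfFiniteType.isLocallyNoetherian (S.b n)

end FSys

end Groth.Agent.Pi1Ext.FAlg
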